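import Groth.Agent.H25Graph.Basic
import Groth.Prelude.Def_W4c4cptpiccptjacBI
import Mathlib.Data.Int.LeastGreatest

/-! Multidegrees satisfying the basic inequality. -/

set_option autoImplicit false
set_option linter.unusedSectionVars false

universe u

namespace Groth.Agent.H25Graph

open Finset LabGraph

variable {V E : Type u} [Fintype V] [Fintype E] [DecidableEq V] [DecidableEq E]
variable {ends : E → V × V} {w : V → ℕ}

/-- Indicator with values in `ℤ`. -/
def indZ (S : Finset V) (v : V) : ℤ := if v ∈ S then 1 else 0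

/-- Excess of `d` on `Y`. -/
def exc (ends : E → V × V) (w : V → ℕ) (d : V → ℤ) (Y : Finset V) : ℤ :=
  canDeg ends w univ * (∑ v ∈ Y, d v) - (∑ v, d v) * canDeg ends w Y

lemma canDeg_univ (ends : E → V × V) (w : V → ℕ) :
    canDeg ends w univ = 2 * (genus ends w - 1) := by
  have h : ∑ v : V, endCount ends univ v = 2 * Fintype.card E := by
    simp only [endCount]
    rw [sum_comm]
    simp [sum_add_distrib, mul_comm]
  have h' := congrArg (fun n : ℕ => (n : ℤ)) h
  push_cast at h'
  simp only [canDeg, genus, sum_add_distrib, sum_sub_distrib, h', ← mul_sum, sum_const, card_univ, nsmul_eq_mul]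
  ring

lemma cut_eq (Y : Finset V) :
    (cut ends Y : ℤ) = ∑ e, (indZ Y (ends e).2 - indZ Y (ends e).1) ^ 2 := by
  rw [cut, natCast_card_filter]
  refine sum_congr rfl fun e _ => ?_
  unfold indZ
  split_ifs <;> simp_all

lemma sum_twist (φ : V → ℤ) (Y : Finset V) :
    ∑ v ∈ Y, twist ends φ v =
      -∑ e, (φ (ends e).2 - φ (ends e).1) * (indZ Y (ends e).2 - indZ Y (ends e).1) := by
  simp only [twist]
  rw [sum_comm, ← sum_neg_distrib]
  refine sum_congr rfl fun e _ => ?_
  simp only [sum_add_distrib, sum_ite_eq, indZ]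
  split_ifs <;> ring

lemma exc_compl (d : V → ℤ) (Y : Finset V) : exc ends w d Yᶜ = - exc ends w d Y := by
  simp only [exc, canDeg]
  rw [← sum_add_sum_compl Y d, ← sum_add_sum_compl Y (fun v => 2 * (w v : ℤ) - 2 + (endCount ends univ v : ℤ))]
  ring

lemma exc_union_inter (d : V → ℤ) (Y Z : Finset V) :
    exc ends w d (Y ∪ Z) + exc ends w d (Y ∩ Z) = exc ends w d Y + exc ends w d Z := by
  have hk : canDeg ends w (Y ∪ Z) + canDeg ends w (Y ∩ Z) = canDeg ends w Y + canDeg ends w Z :=
    sum_union_inter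
  simp only [exc]
  linear_combination canDeg ends w univ * (sum_union_inter (s₁ := Y) (s₂ := Z) (f := d)) - (∑ v, d v) * hk

lemma cut_compl (Y : Finset V) : (cut ends Yᶜ : ℤ) = cut ends Y := by
  simp only [cut_eq]
  refine sum_congr rfl fun e _ => ?_
  simp only [indZ, mem_compl]
  split_ifs <;> ring

lemma satisfiesBI_of_upper (d : V → ℤ)
    (h : ∀ Y : Finset V, 2 * exc ends w d Y ≤ (cut ends Y : ℤ) * canDeg ends w univ) :
    SatisfiesBI ends w d := fun Y => by
  have h1 := h Y
  have h2 := h Yᶜ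
  rw [exc_compl, cut_compl] at h2
  show 2 * |exc ends w d Y| ≤ _
  rcases abs_cases (exc ends w d Y) with ⟨e, -⟩ | ⟨e, -⟩ <;> rw [e] <;> linarith

lemma upper_of_satisfiesBI {d : V → ℤ} (h : SatisfiesBI ends w d) (Y : Finset V) :
    2 * exc ends w d Y ≤ (cut ends Y : ℤ) * canDeg ends w univ := by
  have := h Y
  change 2 * |exc ends w d Y| ≤ _ at this
  linarith [le_abs_self (exc ends w d Y)]

lemma lower_of_satisfiesBI {d : V → ℤ} (h : SatisfiesBI ends w d) (Y : Finset V) :
    -((cut ends Y : ℤ) * canDeg ends w univ) ≤ 2 * exc ends w d Y := by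
  have := h Y
  change 2 * |exc ends w d Y| ≤ _ at this
  linarith [neg_abs_le (exc ends w d Y)]

lemma exc_twist (d : V → ℤ) (φ : V → ℤ) (Y : Finset V) :
    exc ends w (fun v => d v + twist ends φ v) Y =
      exc ends w d Y + canDeg ends w univ * ∑ v ∈ Y, twist ends φ v := by
  have h : ∑ v, twist ends φ v = 0 := by simp [sum_twist, indZ]
  simp only [exc, sum_add_distrib, h]
  ring

lemma bi_add_twist {d : V → ℤ} (hC : 0 ≤ canDeg ends w univ) (hBI : SatisfiesBI ends w d) (Z : Finset V)
    (hZ : 2 * exc ends w d Z = (cut ends Z : ℤ) * canDeg ends w univ) :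
    SatisfiesBI ends w (fun v => d v + twist ends (indZ Z) v) := by
  refine satisfiesBI_of_upper _ fun Y => ?_
  have h1 := upper_of_satisfiesBI hBI (Y ∪ Z)
  have h2 := upper_of_satisfiesBI hBI (Y ∩ Z)
  have h3 := exc_union_inter (ends := ends) (w := w) d Y Z
  have key : (cut ends (Y ∪ Z) : ℤ) + cut ends (Y ∩ Z) + 2 * ∑ v ∈ Y, twist ends (indZ Z) v ≤
      cut ends Y + cut ends Z := by
    simp only [cut_eq, sum_twist, mul_neg, mul_sum, ← sum_add_distrib, ← sub_eq_add_neg, ← sum_sub_distrib]
    refine sum_le_sum fun e _ => ?_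
    simp only [indZ, mem_union, mem_inter]
    by_cases h1 : (ends e).1 ∈ Y <;> by_cases h2 : (ends e).1 ∈ Z <;> by_cases h3 : (ends e).2 ∈ Y <;>
      by_cases h4 : (ends e).2 ∈ Z <;> simp [h1, h2, h3, h4]
  rw [exc_twist]
  nlinarith [mul_le_mul_of_nonneg_left key hC]

lemma bi_exists (hconn : LabGraph.Connected ends) (hC : 0 < canDeg ends w univ) (d : V → ℤ) :
    ∃ d' : V → ℤ, TwistEquiv ends d' d ∧ SatisfiesBI ends w d' := by
  obtain ⟨⟨v₀⟩, hc⟩ := (connected_iff ends).1 hconn
  set C := canDeg ends w univ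
  set ψ : V → ℤ := fun v => C * d v - (∑ u, d u) * (2 * (w v : ℤ) - 2 + (endCount ends univ v : ℤ))
  have hψ : ∀ Y : Finset V, ∑ v ∈ Y, ψ v = exc ends w d Y := fun Y => by
    simp only [ψ, exc, canDeg, sum_sub_distrib, ← mul_sum]; rfl
  have hψ0 : ∑ v, ψ v = 0 := by rw [hψ, exc]; ring
  obtain ⟨γ, -, hγ⟩ := hc.exists_flow v₀ ψ
  simp only [hψ0, ite_self, sub_zero] at hγ
  set En : (V → ℤ) → ℤ := fun φ =>
    C * ∑ e, (φ (ends e).2 - φ (ends e).1) ^ 2 - 2 * ∑ v, φ v * ψ v
  have hbdd : ∀ z, (∃ φ, En φ = z) → -∑ e, γ e ^ 2 ≤ z := by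
    rintro _ ⟨φ, rfl⟩
    have : ∑ v, φ v * ψ v = ∑ e, γ e * (φ (ends e).2 - φ (ends e).1) := by
      rw [← sum_mul_bd]; exact sum_congr rfl fun v _ => by rw [hγ]
    simp only [En]
    rw [this, mul_sum, mul_sum, ← sum_sub_distrib, ← sum_neg_distrib]
    refine sum_le_sum fun e _ => ?_
    nlinarith [sq_nonneg (γ e - (φ (ends e).2 - φ (ends e).1)), sq_nonneg (φ (ends e).2 - φ (ends e).1)]
  obtain ⟨_, ⟨φ, rfl⟩, hmin⟩ := Int.exists_least_of_bdd ⟨_, hbdd⟩ ⟨En 0, 0, rfl⟩
  refine ⟨fun v => d v + twist ends φ v, ⟨φ, fun v => by ring⟩, satisfiesBI_of_upper _ fun Y => ?_⟩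
  have h := hmin (En (φ + indZ Y)) ⟨_, rfl⟩
  have e1 : ∑ v, (φ + indZ Y) v * ψ v = ∑ v, φ v * ψ v + exc ends w d Y := by
    rw [← hψ]
    simp [indZ, add_mul, sum_add_distrib, sum_ite_mem]
  have e2 : ∑ e, ((φ + indZ Y) (ends e).2 - (φ + indZ Y) (ends e).1) ^ 2 =
      ∑ e, (φ (ends e).2 - φ (ends e).1) ^ 2 + cut ends Y - 2 * ∑ v ∈ Y, twist ends φ v := by
    rw [cut_eq, sum_twist, mul_neg, sub_neg_eq_add, mul_sum, ← sum_add_distrib, ← sum_add_distrib]
    exact sum_congr rfl fun e _ => by simp only [Pi.add_apply]; ring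
  simp only [En, e1, e2] at h
  rw [exc_twist]
  linarith

lemma bi_levels (hconn : LabGraph.Connected ends) (hC : 0 < canDeg ends w univ) {d d' : V → ℤ}
    (hBI : SatisfiesBI ends w d) (hBI' : SatisfiesBI ends w d') (heq : TwistEquiv ends d d') :
    ∃ (q : ℕ) (h : V → ℕ), (∀ v : V, h v ≤ q) ∧ (∀ i : ℕ, i ≤ q → ∃ v : V, h v = i) ∧
      (∀ v : V, d v - d' v = twist ends (fun u => (h u : ℤ)) v) ∧
      (∀ i j : ℕ, i ≤ q → j ≤ q → i ≠ j →
        ((∃ e : E, (h (ends e).1 = i ∧ h (ends e).2 = j) ∨ (h (ends e).1 = j ∧ h (ends e).2 = i)) ↔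
          (i + 1 = j ∨ j + 1 = i))) := by
  obtain ⟨hV, hc⟩ := (connected_iff ends).1 hconn
  obtain ⟨φ, hφ⟩ := heq
  obtain ⟨vm, -, hvm⟩ := exists_min_image univ φ univ_nonempty
  obtain ⟨vM, -, hvM⟩ := exists_max_image univ φ univ_nonempty
  set h : V → ℕ := fun v => (φ v - φ vm).toNat
  have hh : ∀ v, (h v : ℤ) = φ v - φ vm := fun v => Int.toNat_of_nonneg (by linarith [hvm v (mem_univ v)])
  have htw : twist ends (fun u => (h u : ℤ)) = twist ends φ := by
    funext v; simp only [twist, hh, sub_sub_sub_cancel_right]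
  -- along crossing edges of upper level sets the jump is one
  have hjump : ∀ (e : E), φ (ends e).2 - φ (ends e).1 ≤ 1 ∧ φ (ends e).1 - φ (ends e).2 ≤ 1 := by
    intro e
    by_contra hne
    set c := max (φ (ends e).1) (φ (ends e).2)
    set Y := univ.filter fun v => c ≤ φ v with hY
    have hd' : d' = fun v => d v + twist ends (fun u => -φ u) v := by
      funext v
      have := hφ v
      have hneg : twist ends (fun u => -φ u) v = -twist ends φ v := by
        simp only [twist, ← sum_neg_distrib]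
        exact sum_congr rfl fun e _ => by split_ifs <;> ring
      rw [hneg]; linarith
    have h1 := lower_of_satisfiesBI hBI Y
    have h1' := upper_of_satisfiesBI hBI' Y
    rw [hd', exc_twist, sum_twist] at h1'
    have hlt : (cut ends Y : ℤ) < ∑ e, (φ (ends e).2 - φ (ends e).1) * (indZ Y (ends e).2 - indZ Y (ends e).1) := by
      rw [cut_eq]
      refine sum_lt_sum (fun f _ => ?_) ⟨e, mem_univ _, ?_⟩
      · simp only [indZ, hY, mem_filter, mem_univ, true_and]
        split_ifs <;> nlinarith
      · simp only [indZ, hY, mem_filter, mem_univ, true_and]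
        rcases le_total (φ (ends e).1) (φ (ends e).2) with hle | hle
        · have hcv : c = φ (ends e).2 := max_eq_right hle
          rw [hcv, if_pos le_rfl, if_neg (by omega)]; omega
        · have hcv : c = φ (ends e).1 := max_eq_left hle
          rw [hcv, if_pos le_rfl, if_neg (by omega)]; omega
    have e3 : ∑ e, (-φ (ends e).2 - -φ (ends e).1) * (indZ Y (ends e).2 - indZ Y (ends e).1) =
        -∑ e, (φ (ends e).2 - φ (ends e).1) * (indZ Y (ends e).2 - indZ Y (ends e).1) := by
      rw [← sum_neg_distrib]; exact sum_congr rfl fun e _ => by ring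
    rw [e3, neg_neg] at h1'
    nlinarith [mul_lt_mul_of_pos_left hlt hC]
  have hcross : ∀ i, i < h vM → ∃ e : E,
      (h (ends e).1 = i ∧ h (ends e).2 = i + 1) ∨ (h (ends e).1 = i + 1 ∧ h (ends e).2 = i) := by
    intro i hi
    obtain ⟨e, -, he⟩ := hc.exists_cross (S := univ.filter fun v => h v ≤ i) ⟨vm, by simp [h]⟩
      (fun hh' => by
        have h1 : vM ∈ univ.filter (fun v => h v ≤ i) := by rw [hh']; exact mem_univ _
        simp at h1; omega)
    have := hjump e
    have := hh (ends e).1; have := hh (ends e).2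
    simp only [mem_filter, mem_univ, true_and] at he
    refine ⟨e, ?_⟩
    omega
  refine ⟨h vM, h, fun v => ?_, fun i hi => ?_, fun v => by rw [htw, hφ], fun i j hi hj hij => ?_⟩
  · have := hvM v (mem_univ v); have := hh v; have := hh vM; omega
  · rcases hi.lt_or_eq with hlt | rfl
    · obtain ⟨e, he | he⟩ := hcross i hlt
      exacts [⟨_, he.1⟩, ⟨_, he.2⟩]
    · exact ⟨vM, rfl⟩
  · constructor
    · rintro ⟨e, he⟩
      have := hjump e
      have := hh (ends e).1; have := hh (ends e).2
      omega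
    · rintro (rfl | rfl)
      · obtain ⟨e, he⟩ := hcross i (by omega)
        exact ⟨e, he.imp (fun h => h) (fun h => h)⟩
      · obtain ⟨e, he⟩ := hcross j (by omega)
        exact ⟨e, he.symm⟩

lemma exceptional_endCount {v : V} (h : IsExceptional ends w v) : endCount ends univ v = 2 := by
  obtain ⟨-, hl, hcut⟩ := h
  rw [← hcut, cut, card_filter, endCount]
  refine sum_congr rfl fun e _ => ?_
  have := hl e
  rcases hp : ends e with ⟨a, b⟩
  rw [hp] at this
  simp only [hp, mem_singleton, ne_eq, Prod.mk.injEq] at this ⊢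
  by_cases ha : a = v <;> by_cases hb : b = v <;> simp [ha, hb] at this ⊢

lemma exc_insert {d : V → ℤ} {x : V} (hx : IsExceptional ends w x) (h1 : d x = 1) {Z : Finset V} (hxZ : x ∉ Z) :
    exc ends w d (insert x Z) = exc ends w d Z + canDeg ends w univ := by
  simp only [exc, canDeg, sum_insert hxZ, h1, hx.1, exceptional_endCount hx]
  push_cast; ring

lemma twist_indicator (Z : Finset V) (x : V) :
    twist ends (fun u => if u ∈ Z then (1 : ℤ) else 0) x =
      -∑ e, (indZ Z (ends e).2 - indZ Z (ends e).1) * (indZ {x} (ends e).2 - indZ {x} (ends e).1) := by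
  have := sum_twist (ends := ends) (indZ Z) {x}
  rw [sum_singleton] at this
  exact this

lemma cut_insert {x : V} (hx : IsExceptional ends w x) {Z : Finset V} (hxZ : x ∉ Z) :
    (cut ends (insert x Z) : ℤ) = cut ends Z + 2 - 2 * twist ends (indZ Z) x := by
  have h2 : (cut ends {x} : ℤ) = 2 := by exact_mod_cast hx.2.2
  have h := sum_twist (ends := ends) (indZ Z) {x}
  rw [sum_singleton] at h
  suffices h4 : (cut ends (insert x Z) : ℤ) = cut ends Z + cut ends {x} +
      2 * ∑ e, (indZ Z (ends e).2 - indZ Z (ends e).1) * (indZ {x} (ends e).2 - indZ {x} (ends e).1) by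
    rw [h4, h, h2]; ring
  rw [cut_eq, cut_eq, cut_eq, mul_sum, ← sum_add_distrib, ← sum_add_distrib]
  refine sum_congr rfl fun e _ => ?_
  have hi : ∀ v, indZ (insert x Z) v = indZ Z v + indZ {x} v := fun v => by
    unfold indZ
    by_cases hv : v = x
    · subst hv; simp [hxZ]
    · simp [hv]
  rw [hi, hi]; ring

lemma bi_rigid (hX : IsQuasistableGraph ends w) (hC : 0 < canDeg ends w univ) {d d' : V → ℤ}
    (hBI : SatisfiesBI ends w d)
    (hone : ∀ v : V, IsExceptional ends w v → d v = 1) (hone' : ∀ v : V, IsExceptional ends w v → d' v = 1)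
    (hstrict : ∀ Y : Finset V, Y.Nonempty → Y ≠ Finset.univ →
      2 * exc ends w d Y = (cut ends Y : ℤ) * canDeg ends w Finset.univ →
      ∀ e : E, (((ends e).1 ∈ Y ∧ (ends e).2 ∉ Y) ∨ ((ends e).1 ∉ Y ∧ (ends e).2 ∈ Y)) →
        (IsExceptional ends w (ends e).1 ∨ IsExceptional ends w (ends e).2))
    (m : ℕ) (Z : Fin m → Finset V)
    (hext : ∀ i : Fin m, 2 * exc ends w d (Z i) = (cut ends (Z i) : ℤ) * canDeg ends w Finset.univ)
    (hsum : ∀ v : V, d' v = d v + ∑ i : Fin m, twist ends (indZ (Z i)) v) : d = d' := by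
  -- at an exceptional vertex every term is nonpositive, vanishing off the set
  have hout : ∀ i x, IsExceptional ends w x → x ∉ Z i → twist ends (indZ (Z i)) x ≤ 0 := by
    intro i x hx hxZ
    have h1 := upper_of_satisfiesBI hBI (insert x (Z i))
    rw [exc_insert hx (hone x hx) hxZ, cut_insert hx hxZ] at h1
    by_contra hlt
    nlinarith [hext i, mul_le_mul_of_nonneg_right (show (1 : ℤ) ≤ twist ends (indZ (Z i)) x by omega) hC.le]
  have hin : ∀ i x, x ∈ Z i → twist ends (indZ (Z i)) x ≤ 0 := by
    intro i x hx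
    rw [twist]
    refine sum_nonpos fun e _ => ?_
    simp only [indZ]
    by_cases ha : (ends e).1 = x <;> by_cases hb : (ends e).2 = x <;> simp only [ha, hb, hx, if_true, if_false] <;>
      (try split_ifs) <;> omega
  have hzero : ∀ i x, IsExceptional ends w x → twist ends (indZ (Z i)) x = 0 := by
    intro i x hx
    have h := hsum x
    rw [hone x hx, hone' x hx] at h
    have h0 : ∑ j : Fin m, twist ends (indZ (Z j)) x = 0 := by linarith
    exact (sum_eq_zero_iff_of_nonpos fun j _ => if hj : x ∈ Z j then hin j x hj else hout j x hx hj).1 h0 i (mem_univ i)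
  have hnocross : ∀ i e, indZ (Z i) (ends e).2 - indZ (Z i) (ends e).1 = 0 := by
    intro i e
    by_contra hne
    have hcr : ((ends e).1 ∈ Z i ∧ (ends e).2 ∉ Z i) ∨ ((ends e).1 ∉ Z i ∧ (ends e).2 ∈ Z i) := by
      simp only [indZ] at hne
      by_cases ha : (ends e).1 ∈ Z i <;> by_cases hb : (ends e).2 ∈ Z i <;> simp_all
    have hnon : (Z i).Nonempty := by rcases hcr with h | h <;> exact ⟨_, by first | exact h.1 | exact h.2⟩
    have huniv : Z i ≠ univ := fun h => by rcases hcr with h' | h' <;> simp [h] at h'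
    have hex := hstrict _ hnon huniv (hext i) e hcr
    have hab : (ends e).1 ≠ (ends e).2 := fun h => by rw [h] at hcr; tauto
    -- a crossing edge at an exceptional vertex gives a nonzero twist
    have key : ∀ x y, (ends e = (x, y) ∨ ends e = (y, x)) → IsExceptional ends w x → False := by
      intro x y hxy hx
      have h0 := hzero i x hx
      by_cases hxZ : x ∈ Z i
      · rw [twist] at h0
        have hterm : ∀ f : E, ((if (ends f).1 = x then indZ (Z i) (ends f).2 - indZ (Z i) (ends f).1 else 0) +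
            (if (ends f).2 = x then indZ (Z i) (ends f).1 - indZ (Z i) (ends f).2 else 0)) ≤ 0 := fun f => by
          simp only [indZ]
          by_cases ha : (ends f).1 = x <;> by_cases hb : (ends f).2 = x <;>
            simp only [ha, hb, hxZ, if_true, if_false] <;> (try split_ifs) <;> omega
        have := (sum_eq_zero_iff_of_nonpos fun f _ => hterm f).1 h0 e (mem_univ e)
        rcases hxy with h | h <;> rw [h] at this hab hcr <;> simp only at this hab hcr <;>
          simp [indZ, hab, Ne.symm hab, hxZ] at this hcr <;> simp_all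
      · -- the insertion bound is strict here
        have h1 := hout i x hx hxZ
        have hterm : ∀ f : E, 0 ≤ ((if (ends f).1 = x then indZ (Z i) (ends f).2 - indZ (Z i) (ends f).1 else 0) +
            (if (ends f).2 = x then indZ (Z i) (ends f).1 - indZ (Z i) (ends f).2 else 0)) := fun f => by
          simp only [indZ]
          by_cases ha : (ends f).1 = x <;> by_cases hb : (ends f).2 = x <;>
            simp only [ha, hb, hxZ, if_true, if_false] <;> (try split_ifs) <;> omega
        rw [twist] at h0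
        have := (sum_eq_zero_iff_of_nonneg fun f _ => hterm f).1 h0 e (mem_univ e)
        rcases hxy with h | h <;> rw [h] at this hab hcr <;> simp only at this hab hcr <;>
          simp [indZ, hab, Ne.symm hab, hxZ] at this hcr <;> simp_all
    rcases hex with h | h
    · exact key _ _ (Or.inl rfl) h
    · exact key _ _ (Or.inr rfl) h
  funext v
  rw [hsum v, sum_eq_zero fun i _ => ?_, add_zero]
  rw [twist]
  refine sum_eq_zero fun e _ => ?_
  have := hnocross i e
  split_ifs <;> linarith

lemma exceptional_canDeg {v : V} (h : IsExceptional ends w v) :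
    2 * (w v : ℤ) - 2 + (endCount ends univ v : ℤ) = 0 := by
  rw [h.1, exceptional_endCount h]; norm_num

lemma bi_pullback (hZ : IsQuasistableGraph ends w) (hC : 0 ≤ canDeg ends w univ) (S : Finset V)
    (hS : ∀ v ∈ S, IsExceptional ends w v)
    (dt : V → ℤ) (hzero : ∀ v ∈ S, dt v = 0)
    (hBI : ∀ W : Finset V, Disjoint W S →
      2 * |canDeg ends w Finset.univ * (∑ v ∈ W, dt v) - (∑ v, dt v) * canDeg ends w (Finset.univ.filter (fun v : V => v ∈ W ∨ (v ∈ S ∧ ∀ e : E, ((ends e).1 = v → (ends e).2 ∈ W) ∧ ((ends e).2 = v → (ends e).1 ∈ W))))|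
        ≤ (cut ends (Finset.univ.filter (fun v : V => v ∈ W ∨ (v ∈ S ∧ ∀ e : E, ((ends e).1 = v → (ends e).2 ∈ W) ∧ ((ends e).2 = v → (ends e).1 ∈ W)))) : ℤ) * canDeg ends w Finset.univ) :
    SatisfiesBI ends w dt := by
  classical
  intro Y
  set W := Y \ S with hW
  set Wp := Finset.univ.filter (fun v : V => v ∈ W ∨ (v ∈ S ∧ ∀ e : E, ((ends e).1 = v → (ends e).2 ∈ W) ∧ ((ends e).2 = v → (ends e).1 ∈ W)))
  have h := hBI W sdiff_disjoint
  have hd : ∑ v ∈ W, dt v = ∑ v ∈ Y, dt v :=
    sum_subset sdiff_subset fun v hv hv' => hzero v (by by_contra hs; exact hv' (mem_sdiff.2 ⟨hv, hs⟩))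
  have hk : ∀ A : Finset V, A \ S = W → canDeg ends w A = canDeg ends w W := fun A hA => by
    rw [← hA, canDeg, canDeg]
    exact (sum_subset sdiff_subset fun v hv hv' =>
      exceptional_canDeg (hS v (by by_contra hs; exact hv' (mem_sdiff.2 ⟨hv, hs⟩)))).symm
  have hWp : Wp \ S = W := by
    ext v
    simp only [Wp, hW, mem_sdiff, mem_filter, mem_univ, true_and]
    tauto
  rw [hd, hk Wp hWp, ← hk Y rfl] at h
  refine h.trans (mul_le_mul_of_nonneg_right ?_ hC)
  -- compare the cuts
  have hind : ∀ e, (ends e).1 ∈ S → (ends e).2 ∈ S → False := fun e h1 h2 => by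
    by_cases hab : (ends e).1 = (ends e).2
    · exact (hS _ h1).2.1 e (Prod.ext rfl hab.symm)
    · exact hZ.2 e hab ⟨hS _ h1, hS _ h2⟩
  set star : V → Finset E := fun s => univ.filter fun e => (ends e).1 = s ∨ (ends e).2 = s
  set f : Finset V → E → ℤ := fun A e => (indZ A (ends e).2 - indZ A (ends e).1) ^ 2
  have hdisj : (S : Set V).PairwiseDisjoint star := fun s hs t ht hst =>
    disjoint_left.2 fun e h1 h2 => by
      simp only [star, mem_filter, mem_univ, true_and] at h1 h2
      rcases h1 with rfl | rfl <;> rcases h2 with rfl | rfl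
      · exact hst rfl
      · exact hind e hs ht
      · exact hind e ht hs
      · exact hst rfl
  have hsplit : ∀ A : Finset V, (cut ends A : ℤ) =
      ∑ s ∈ S, ∑ e ∈ star s, f A e + ∑ e ∈ (S.biUnion star)ᶜ, f A e := fun A => by
    rw [cut_eq, ← sum_add_sum_compl (S.biUnion star), sum_biUnion hdisj]
  rw [hsplit, hsplit]
  refine add_le_add (sum_le_sum fun s hs => ?_) (le_of_eq (sum_congr rfl fun e he => ?_))
  · -- two edges at `s`
    have hcard : (star s).card = 2 := by
      rw [← (hS s hs).2.2, cut]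
      congr 1
      ext e
      have := (hS s hs).2.1 e
      simp only [star, mem_filter, mem_univ, true_and, mem_singleton]
      rcases hp : ends e with ⟨a, b⟩
      rw [hp, ne_eq, Prod.mk.injEq] at this
      simp only [hp]
      tauto
    obtain ⟨a, b, hab, hst⟩ := card_eq_two.1 hcard
    have hnb : ∀ e ∈ star s, ∃ y, y ∉ S ∧ (ends e = (s, y) ∨ ends e = (y, s)) := fun e he => by
      simp only [star, mem_filter, mem_univ, true_and] at he
      rcases he with rfl | rfl
      · exact ⟨(ends e).2, hind e hs, Or.inl rfl⟩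
      · exact ⟨(ends e).1, fun h1 => hind e h1 hs, Or.inr rfl⟩
    obtain ⟨ya, hya, ha⟩ := hnb a (by simp [hst])
    obtain ⟨yb, hyb, hb⟩ := hnb b (by simp [hst])
    have hWy : ∀ y, y ∉ S → (y ∈ W ↔ y ∈ Y) := fun y hy => by simp [hW, hy]
    have hWpy : ∀ y, y ∉ S → (y ∈ Wp ↔ y ∈ Y) := fun y hy => by simp [Wp, hW, hy]
    have hWs : s ∈ Wp ↔ (ya ∈ Y ∧ yb ∈ Y) := by
      rw [← hWy ya hya, ← hWy yb hyb]
      have hsW : s ∉ W := by simp [hW, hs]
      simp only [Wp, mem_filter, mem_univ, true_and, hsW, false_or, hs]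
      constructor
      · intro hall
        constructor
        · rcases ha with h' | h'
          · have := (hall a).1 (by rw [h']); rwa [h'] at this
          · have := (hall a).2 (by rw [h']); rwa [h'] at this
        · rcases hb with h' | h'
          · have := (hall b).1 (by rw [h']); rwa [h'] at this
          · have := (hall b).2 (by rw [h']); rwa [h'] at this
      · intro hy e
        have hcases : (ends e).1 = s ∨ (ends e).2 = s → e = a ∨ e = b := fun h' => by
          have : e ∈ star s := by simp [star, h']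
          rw [hst] at this; simpa using this
        refine ⟨fun h' => ?_, fun h' => ?_⟩
        · rcases hcases (Or.inl h') with rfl | rfl
          · rcases ha with h'' | h'' <;> rw [h''] at h' ⊢ <;> simp only at h' ⊢
            · exact hy.1
            · exact absurd (h' ▸ hs) hya
          · rcases hb with h'' | h'' <;> rw [h''] at h' ⊢ <;> simp only at h' ⊢
            · exact hy.2
            · exact absurd (h' ▸ hs) hyb
        · rcases hcases (Or.inr h') with rfl | rfl
          · rcases ha with h'' | h'' <;> rw [h''] at h' ⊢ <;> simp only at h' ⊢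
            · exact absurd (h' ▸ hs) hya
            · exact hy.1
          · rcases hb with h'' | h'' <;> rw [h''] at h' ⊢ <;> simp only at h' ⊢
            · exact absurd (h' ▸ hs) hyb
            · exact hy.2
    have hval : ∀ A : Finset V, ∑ e ∈ star s, f A e =
        (indZ A ya - indZ A s) ^ 2 + (indZ A yb - indZ A s) ^ 2 := fun A => by
      rw [hst, sum_pair hab]
      congr 1
      · rcases ha with h' | h' <;> simp only [f, h']; ring
      · rcases hb with h' | h' <;> simp only [f, h']; ring
    rw [hval, hval]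
    simp only [Wp, mem_filter, mem_univ, true_and] at hWpy hWs
    simp only [indZ, mem_filter, mem_univ, true_and, hWpy ya hya, hWpy yb hyb, hWs]
    by_cases h1 : ya ∈ Y <;> by_cases h2 : yb ∈ Y <;> by_cases h3 : s ∈ Y <;> simp [h1, h2, h3]
  · simp only [mem_compl, mem_biUnion, not_exists, not_and, star, mem_filter, mem_univ, true_and, not_or] at he
    have h1 : (ends e).1 ∉ S := fun h => (he _ h).1 rfl
    have h2 : (ends e).2 ∉ S := fun h => (he _ h).2 rfl
    simp [f, indZ, Wp, hW, h1, h2]

end Groth.Agent.H25Graph
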