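import Groth.Prelude.Def_DualGr
import Mathlib.Data.ZMod.Basic
import Mathlib.Tactic

/-! Finite multigraphs in the `LabGraph` encoding: reachability, chains, circuits, forests. -/

set_option autoImplicit false
set_option linter.unusedSectionVars false

universe u w

namespace Groth.Agent.H25Graph

open Finset

variable {V E : Type u}

/-- One step along an edge of `A`. -/
def Step (ends : E → V × V) (A : Finset E) (x y : V) : Prop :=
  ∃ e ∈ A, ends e = (x, y) ∨ ends e = (y, x)

/-- Joined by a walk in `A`. -/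
def Reach (ends : E → V × V) (A : Finset E) (x y : V) : Prop :=
  Relation.ReflTransGen (Step ends A) x y

lemma Reach.rfl' {ends : E → V × V} {A : Finset E} {x : V} : Reach ends A x x := Relation.ReflTransGen.refl

lemma Reach.trans' {ends : E → V × V} {A : Finset E} {x y z : V} (h : Reach ends A x y) (h' : Reach ends A y z) :
    Reach ends A x z := Relation.ReflTransGen.trans h h'

lemma Reach.symm {ends : E → V × V} {A : Finset E} {x y : V} (h : Reach ends A x y) : Reach ends A y x := by
  induction h with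
  | refl => exact Relation.ReflTransGen.refl
  | tail _ h2 ih =>
    obtain ⟨e, he, h⟩ := h2
    exact Relation.ReflTransGen.head ⟨e, he, h.symm⟩ ih

lemma Reach.mono {ends : E → V × V} {A B : Finset E} (hAB : A ⊆ B) {x y : V} (h : Reach ends A x y) :
    Reach ends B x y := by
  induction h with
  | refl => exact Relation.ReflTransGen.refl
  | tail _ h2 ih =>
    obtain ⟨e, he, h⟩ := h2
    exact ih.tail ⟨e, hAB he, h⟩

lemma Reach.edge {ends : E → V × V} {A : Finset E} {e : E} (he : e ∈ A) :
    Reach ends A (ends e).1 (ends e).2 :=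
  Relation.ReflTransGen.single ⟨e, he, Or.inl rfl⟩

lemma Reach.mem_of_closed {ends : E → V × V} {A : Finset E} {x y : V} (h : Reach ends A x y) {S : Finset V}
    (hS : ∀ e ∈ A, ((ends e).1 ∈ S ↔ (ends e).2 ∈ S)) (hx : x ∈ S) : y ∈ S := by
  induction h with
  | refl => exact hx
  | tail _ h2 ih =>
    obtain ⟨e, he, h | h⟩ := h2
    · have := hS e he; rw [h] at this; exact this.1 ih
    · have := hS e he; rw [h] at this; exact this.2 ih

/-- `A` joins any two vertices. -/
def ConnOn (ends : E → V × V) (A : Finset E) : Prop := ∀ x y, Reach ends A x y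

lemma ConnOn.mono {ends : E → V × V} {A B : Finset E} (h : ConnOn ends A) (hAB : A ⊆ B) : ConnOn ends B :=
  fun x y => (h x y).mono hAB

lemma connected_sub_iff (ends : E → V × V) (A : Finset E) :
    LabGraph.Connected (V := V) (fun e : A => ends e.1) ↔ Nonempty V ∧ ConnOn ends A := by
  have : LabGraph.Adj (V := V) (fun e : A => ends e.1) = Step ends A := by
    funext x y
    exact propext ⟨fun ⟨e, h⟩ => ⟨e.1, e.2, h⟩, fun ⟨e, he, h⟩ => ⟨⟨e, he⟩, h⟩⟩
  rw [LabGraph.Connected, this]
  rfl

lemma connected_iff [Fintype E] (ends : E → V × V) :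
    LabGraph.Connected ends ↔ Nonempty V ∧ ConnOn ends univ := by
  have : LabGraph.Adj ends = Step ends univ := by
    funext x y
    exact propext ⟨fun ⟨e, h⟩ => ⟨e, mem_univ _, h⟩, fun ⟨e, _, h⟩ => ⟨e, h⟩⟩
  rw [LabGraph.Connected, this]
  rfl

section comp
variable [Fintype V] (ends : E → V × V) (A : Finset E)

open Classical in
/-- The component of `x` in `A`. -/
noncomputable def comp (x : V) : Finset V := univ.filter fun y => Reach ends A x y

lemma mem_comp {x y : V} : y ∈ comp ends A x ↔ Reach ends A x y := by simp [comp]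

lemma self_mem_comp (x : V) : x ∈ comp ends A x := (mem_comp ends A).2 Reach.rfl'

lemma comp_closed (x : V) {e : E} (he : e ∈ A) :
    (ends e).1 ∈ comp ends A x ↔ (ends e).2 ∈ comp ends A x := by
  simp only [mem_comp]
  exact ⟨fun h => h.trans' (Reach.edge he), fun h => h.trans' (Reach.edge he).symm⟩

/-- A connected edge set crosses every nonempty proper vertex set. -/
lemma ConnOn.exists_cross {ends : E → V × V} {A : Finset E} (h : ConnOn ends A) {S : Finset V}
    (hne : S.Nonempty) (hun : S ≠ univ) : ∃ e ∈ A, ¬ ((ends e).1 ∈ S ↔ (ends e).2 ∈ S) := by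
  by_contra hc
  push_neg at hc
  obtain ⟨x, hx⟩ := hne
  exact hun (eq_univ_of_forall fun y => (h x y).mem_of_closed hc hx)

end comp

section bd
variable [Fintype E] [DecidableEq V] {R : Type w} [CommRing R]

/-- Boundary with coefficients in `R`. -/
def bd (ends : E → V × V) (γ : E → R) (v : V) : R :=
  ∑ e : E, ((if (ends e).2 = v then γ e else 0) - (if (ends e).1 = v then γ e else 0))

lemma boundary_eq_bd (ends : E → V × V) (γ : E → ℤ) : LabGraph.boundary ends γ = bd ends γ := rfl

lemma bd_add (ends : E → V × V) (γ γ' : E → R) (v : V) :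
    bd ends (γ + γ') v = bd ends γ v + bd ends γ' v := by
  simp only [bd, Pi.add_apply, ← sum_add_distrib]
  refine sum_congr rfl fun e _ => ?_
  split_ifs <;> ring

lemma bd_smul (ends : E → V × V) (c : R) (γ : E → R) (v : V) :
    bd ends (fun e => c * γ e) v = c * bd ends γ v := by
  simp only [bd, mul_sum]
  refine sum_congr rfl fun e _ => ?_
  split_ifs <;> ring

lemma bd_cast (ends : E → V × V) (γ : E → ℤ) (v : V) :
    bd ends (fun e => (γ e : R)) v = ((bd ends γ v : ℤ) : R) := by
  simp only [bd, Int.cast_sum, Int.cast_sub, apply_ite (fun z : ℤ => (z : R)), Int.cast_zero]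

lemma sum_bd (ends : E → V × V) (γ : E → R) (S : Finset V) :
    ∑ v ∈ S, bd ends γ v =
      ∑ e : E, γ e * ((if (ends e).2 ∈ S then 1 else 0) - (if (ends e).1 ∈ S then 1 else 0)) := by
  simp only [bd]
  rw [sum_comm]
  refine sum_congr rfl fun e _ => ?_
  rw [sum_sub_distrib, sum_ite_eq, sum_ite_eq]
  split_ifs <;> ring

lemma sum_mul_bd [Fintype V] (ends : E → V × V) (γ : E → R) (φ : V → R) :
    ∑ v, φ v * bd ends γ v = ∑ e : E, γ e * (φ (ends e).2 - φ (ends e).1) := by
  simp only [bd, mul_sum, mul_sub, mul_ite, mul_zero]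
  rw [sum_comm]
  refine sum_congr rfl fun e _ => ?_
  rw [sum_sub_distrib, sum_ite_eq, sum_ite_eq, if_pos (mem_univ _), if_pos (mem_univ _)]
  ring

lemma bd_single [DecidableEq E] (ends : E → V × V) (e : E) (c : R) (v : V) :
    bd ends (Pi.single e c) v = (if (ends e).2 = v then c else 0) - (if (ends e).1 = v then c else 0) := by
  rw [bd, sum_eq_single e]
  · simp
  · intro b _ hb; simp [Pi.single_eq_of_ne hb]
  · simp

/-- A walk gives an integral chain. -/
lemma Reach.chain [DecidableEq E] {ends : E → V × V} {A : Finset E} {x y : V} (h : Reach ends A x y) :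
    ∃ γ : E → ℤ, (∀ e, e ∉ A → γ e = 0) ∧
      ∀ z, bd ends γ z = (if y = z then 1 else 0) - (if x = z then 1 else 0) := by
  induction h with
  | refl => exact ⟨0, fun _ _ => rfl, fun z => by simp [bd]⟩
  | @tail b c _ h2 ih =>
    obtain ⟨γ, h0, h1⟩ := ih
    obtain ⟨e, he, h | h⟩ := h2
    · refine ⟨γ + Pi.single e 1, fun f hf => ?_, fun z => ?_⟩
      · rw [Pi.add_apply, h0 f hf, Pi.single_eq_of_ne (by rintro rfl; exact hf he), add_zero]
      · rw [bd_add, h1, bd_single, h]; simp only; ring
    · refine ⟨γ + Pi.single e (-1), fun f hf => ?_, fun z => ?_⟩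
      · rw [Pi.add_apply, h0 f hf, Pi.single_eq_of_ne (by rintro rfl; exact hf he), add_zero]
      · rw [bd_add, h1, bd_single, h]; simp only; split_ifs <;> ring

/-- A cycle is never supported on a bridge. -/
lemma reach_of_cycle [Fintype V] [DecidableEq E] {ends : E → V × V} {γ : E → R} (hγ : ∀ v, bd ends γ v = 0)
    {A : Finset E} (hA : ∀ e, e ∉ A → γ e = 0) {e : E} (he : γ e ≠ 0) :
    Reach ends (A.erase e) (ends e).1 (ends e).2 := by
  by_contra hc
  set S := comp ends (A.erase e) (ends e).1
  have h2 : (ends e).2 ∉ S := fun h => hc ((mem_comp _ _).1 h)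
  have h1 : (ends e).1 ∈ S := self_mem_comp _ _ _
  have := sum_bd ends γ S
  rw [sum_congr rfl fun v _ => hγ v, sum_const_zero, sum_eq_single e] at this
  · rw [if_neg h2, if_pos h1] at this
    exact he (by linear_combination this)
  · intro f _ hf
    by_cases hfA : f ∈ A
    · rw [if_congr (comp_closed ends _ (ends e).1 (mem_erase.2 ⟨hf, hfA⟩)) rfl rfl, sub_self, mul_zero]
    · rw [hA f hfA, zero_mul]
  · simp

end bd

section circuit
variable [DecidableEq V] (ends : E → V × V)

/-- All vertices have even degree in `C`. -/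
def EvenSet (C : Finset E) : Prop := ∀ v : V, Even (LabGraph.endCount ends C v)

variable {ends}

lemma EvenSet.bd2 [Fintype E] [DecidableEq E] {C : Finset E} :
    EvenSet ends C ↔ ∀ v : V, bd ends (fun e => if e ∈ C then (1 : ZMod 2) else 0) v = 0 := by
  refine forall_congr' fun v => ?_
  rw [← ZMod.natCast_eq_zero_iff_even]
  have : ((LabGraph.endCount ends C v : ℕ) : ZMod 2) =
      bd ends (fun e => if e ∈ C then (1 : ZMod 2) else 0) v := by
    simp only [LabGraph.endCount, bd, Nat.cast_sum, Nat.cast_add, Nat.cast_ite, Nat.cast_one, Nat.cast_zero]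
    rw [← Finset.sum_ite_mem_eq (s := C)]
    refine sum_congr rfl fun e _ => ?_
    split_ifs <;> decide
  rw [this]

lemma endCount_sdiff [DecidableEq E] {C C' : Finset E} (h : C' ⊆ C) (v : V) :
    LabGraph.endCount ends (C \ C') v + LabGraph.endCount ends C' v = LabGraph.endCount ends C v :=
  sum_sdiff h

lemma EvenSet.sdiff [DecidableEq E] {C C' : Finset E} (hC : EvenSet ends C) (hC' : EvenSet ends C')
    (h : C' ⊆ C) : EvenSet ends (C \ C') := fun v => by
  have := endCount_sdiff (ends := ends) h v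
  have h1 := hC v
  rw [← this, Nat.even_add] at h1
  exact h1.2 (hC' v)

/-- An edge of an even set lies on a circuit inside it. -/
lemma EvenSet.exists_circuit [DecidableEq E] {C : Finset E} (hC : EvenSet ends C) {e : E} (he : e ∈ C) :
    ∃ C' : Finset E, LabGraph.IsCircuit ends C' ∧ C' ⊆ C ∧ e ∈ C' := by
  induction C using Finset.strongInduction with
  | _ C ih =>
    by_cases h : ∀ C' : Finset E, C' ⊂ C → C'.Nonempty → ∃ v : V, ¬ Even (LabGraph.endCount ends C' v)
    · exact ⟨C, ⟨⟨e, he⟩, hC, h⟩, subset_rfl, he⟩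
    · push_neg at h
      obtain ⟨C', hss, hne, hev⟩ := h
      by_cases heC : e ∈ C'
      · obtain ⟨D, hD, h1, h2⟩ := ih C' hss hev heC
        exact ⟨D, hD, h1.trans hss.subset, h2⟩
      · obtain ⟨D, hD, h1, h2⟩ := ih (C \ C') (sdiff_ssubset hss.subset hne) (hC.sdiff hev hss.subset)
          (mem_sdiff.2 ⟨he, heC⟩)
        exact ⟨D, hD, h1.trans sdiff_subset, h2⟩

variable [Fintype V] [Fintype E] [DecidableEq E]

/-- An edge of an even set is not a bridge of it. -/
lemma EvenSet.reach {C : Finset E} (hC : EvenSet ends C) {e : E} (he : e ∈ C) :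
    Reach ends (C.erase e) (ends e).1 (ends e).2 :=
  reach_of_cycle (R := ZMod 2) (EvenSet.bd2.1 hC) (fun f hf => if_neg hf)
    (by simp only [if_pos he]; decide)

/-- An integral cycle with coefficient one at a given edge of an even set, supported in it. -/
lemma EvenSet.exists_cycle {C : Finset E} (hC : EvenSet ends C) {e : E} (he : e ∈ C) :
    ∃ γ : E → ℤ, (∀ f, f ∉ C → γ f = 0) ∧ γ e = 1 ∧ ∀ v, bd ends γ v = 0 := by
  obtain ⟨γ, h0, h1⟩ := (hC.reach he).symm.chain
  refine ⟨γ + Pi.single e 1, fun f hf => ?_, ?_, fun v => ?_⟩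
  · rw [Pi.add_apply, h0 f (fun h => hf (mem_of_mem_erase h)), Pi.single_eq_of_ne (by rintro rfl; exact hf he),
      add_zero]
  · rw [Pi.add_apply, h0 e (notMem_erase _ _), Pi.single_eq_same, zero_add]
  · rw [bd_add, h1, bd_single]; ring

/-- An edge whose ends are joined otherwise lies on a circuit. -/
lemma exists_circuit_of_reach {A : Finset E} {e : E} (he : e ∉ A) (h : Reach ends A (ends e).1 (ends e).2) :
    ∃ C : Finset E, LabGraph.IsCircuit ends C ∧ C ⊆ insert e A ∧ e ∈ C := by
  obtain ⟨γ, h0, h1⟩ := h.symm.chain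
  set δ : E → ℤ := γ + Pi.single e 1 with hδ
  have hev : EvenSet ends (univ.filter fun f => (δ f : ZMod 2) ≠ 0) := by
    rw [EvenSet.bd2]
    intro v
    have : bd ends δ v = 0 := by rw [hδ, bd_add, h1, bd_single]; ring
    have h2 := bd_cast (R := ZMod 2) ends δ v
    rw [this, Int.cast_zero] at h2
    refine Eq.trans ?_ h2
    congr 1
    funext f
    have key : ∀ x : ZMod 2, (if x ≠ 0 then (1 : ZMod 2) else 0) = x := by decide
    simpa using key (δ f)
  obtain ⟨C, hC, hsub, heC⟩ := hev.exists_circuit (e := e)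
    (by simp [hδ, h0 e he])
  refine ⟨C, hC, fun f hf => ?_, heC⟩
  by_contra hf'
  rw [mem_insert, not_or] at hf'
  have := (mem_filter.1 (hsub hf)).2
  simp [hδ, h0 f hf'.2, Pi.single_eq_of_ne hf'.1] at this

end circuit

section forest
variable [DecidableEq V] (ends : E → V × V)

/-- `A` contains no circuit. -/
def ForestOn (A : Finset E) : Prop := ∀ C : Finset E, C ⊆ A → ¬ LabGraph.IsCircuit ends C

lemma endCount_sub (A : Finset E) (C : Finset A) (v : V) :
    LabGraph.endCount (fun e : A => ends e.1) C v =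
      LabGraph.endCount ends (C.map (Function.Embedding.subtype _)) v := by
  simp only [LabGraph.endCount, sum_map, Function.Embedding.subtype_apply]
  rfl

lemma isCircuit_sub_iff [DecidableEq E] (A : Finset E) (C : Finset A) :
    LabGraph.IsCircuit (V := V) (fun e : A => ends e.1) C ↔
      LabGraph.IsCircuit ends (C.map (Function.Embedding.subtype _)) := by
  constructor
  · rintro ⟨h1, h2, h3⟩
    refine ⟨h1.map, fun v => endCount_sub ends A C v ▸ h2 v, fun D hD hne => ?_⟩
    obtain ⟨D', -, rfl⟩ : ∃ D' : Finset A, D' ⊆ C ∧ D = D'.map (Function.Embedding.subtype _) :=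
      subset_map_iff.1 hD.subset
    obtain ⟨v, hv⟩ := h3 D' (map_ssubset_map.1 hD) (map_nonempty.1 hne)
    exact ⟨v, endCount_sub ends A D' v ▸ hv⟩
  · rintro ⟨h1, h2, h3⟩
    refine ⟨map_nonempty.1 h1, fun v => (endCount_sub ends A C v).symm ▸ h2 v, fun D hD hne => ?_⟩
    obtain ⟨v, hv⟩ := h3 _ (map_ssubset_map.2 hD) hne.map
    exact ⟨v, (endCount_sub ends A D v).symm ▸ hv⟩

lemma isForest_sub_iff [Fintype V] [Fintype E] [DecidableEq E] (A : Finset E) :
    DualGr.IsForest (V := V) (fun e : A => ends e.1) ↔ ForestOn ends A := by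
  refine ⟨fun h C hC hc => h (C.subtype (· ∈ A)) ?_, fun h C hc => h _ ?_ ((isCircuit_sub_iff ends A C).1 hc)⟩
  · rwa [isCircuit_sub_iff, subtype_map_of_mem hC]
  · exact map_subtype_subset C

lemma isTree_sub_iff [Fintype V] [Fintype E] [DecidableEq E] (A : Finset E) :
    DualGr.IsTree (V := V) (fun e : A => ends e.1) ↔ Nonempty V ∧ ConnOn ends A ∧ ForestOn ends A := by
  rw [DualGr.IsTree, connected_sub_iff, isForest_sub_iff, and_assoc]

lemma isTree_iff [Fintype V] [Fintype E] [DecidableEq E] :
    DualGr.IsTree ends ↔ Nonempty V ∧ ConnOn ends univ ∧ ForestOn ends univ := by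
  rw [DualGr.IsTree, connected_iff, and_assoc]
  exact and_congr_right fun _ => and_congr_right fun _ => ⟨fun h C _ => h C, fun h C => h C (subset_univ _)⟩

variable {ends} [Fintype V] [Fintype E] [DecidableEq E]

lemma ForestOn.bridge {A : Finset E} (h : ForestOn ends A) {e : E} (he : e ∈ A) :
    ¬ Reach ends (A.erase e) (ends e).1 (ends e).2 := fun hr => by
  obtain ⟨C, hC, hsub, -⟩ := exists_circuit_of_reach (notMem_erase e A) hr
  exact h C (insert_erase he ▸ hsub) hC

lemma ConnOn.erase {A : Finset E} (h : ConnOn ends A) {e : E}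
    (hr : Reach ends (A.erase e) (ends e).1 (ends e).2) : ConnOn ends (A.erase e) := fun x y => by
  induction h x y with
  | refl => exact Reach.rfl'
  | @tail b c _ h2 ih =>
    obtain ⟨f, hf, hend⟩ := h2
    by_cases hfe : f = e
    · subst hfe
      rcases hend with h' | h'
      · rw [h'] at hr; exact ih.trans' hr
      · rw [h'] at hr; exact ih.trans' hr.symm
    · exact ih.trans' (Relation.ReflTransGen.single ⟨f, mem_erase.2 ⟨hfe, hf⟩, hend⟩)

/-- A connected edge set contains a spanning tree. -/
lemma ConnOn.exists_tree {A : Finset E} (h : ConnOn ends A) :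
    ∃ T : Finset E, T ⊆ A ∧ ConnOn ends T ∧ ForestOn ends T := by
  induction A using Finset.strongInduction with
  | _ A ih =>
    by_cases hF : ForestOn ends A
    · exact ⟨A, subset_rfl, h, hF⟩
    · simp only [ForestOn, not_forall, not_not] at hF
      obtain ⟨C, hCA, ⟨e, he⟩, hev, -⟩ := hF
      have hr := (EvenSet.reach (ends := ends) hev he).mono (erase_subset_erase e hCA)
      obtain ⟨T, hT, h1, h2⟩ := ih _ (erase_ssubset (hCA he)) (h.erase hr)
      exact ⟨T, hT.trans (erase_subset _ _), h1, h2⟩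

/-- The side of the first end of `e` in `A` without `e`. -/
lemma ForestOn.side_spec {A : Finset E} (h : ForestOn ends A) {e : E} (he : e ∈ A) :
    (ends e).1 ∈ comp ends (A.erase e) (ends e).1 ∧ (ends e).2 ∉ comp ends (A.erase e) (ends e).1 ∧
      ∀ f ∈ A, f ≠ e →
        ((ends f).1 ∈ comp ends (A.erase e) (ends e).1 ↔ (ends f).2 ∈ comp ends (A.erase e) (ends e).1) :=
  ⟨self_mem_comp _ _ _, fun hm => h.bridge he ((mem_comp _ _).1 hm),
    fun f hf hfe => comp_closed ends _ _ (mem_erase.2 ⟨hfe, hf⟩)⟩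

/-- Sums of a boundary over a side of a forest read off the coefficient. -/
lemma ForestOn.sum_side {R : Type w} [CommRing R] {A : Finset E} (h : ForestOn ends A) {γ : E → R}
    (hγ : ∀ f, f ∉ A → γ f = 0) {e : E} (he : e ∈ A) :
    ∑ v ∈ comp ends (A.erase e) (ends e).1, bd ends γ v = - γ e := by
  obtain ⟨h1, h2, h3⟩ := h.side_spec he
  rw [sum_bd, sum_eq_single e]
  · rw [if_neg h2, if_pos h1]; ring
  · intro f _ hfe
    by_cases hf : f ∈ A
    · rw [if_congr (h3 f hf hfe) rfl rfl, sub_self, mul_zero]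
    · rw [hγ f hf, zero_mul]
  · simp

/-- On a forest every edge labelling is a coboundary. -/
lemma ForestOn.exists_potential {R : Type w} [CommRing R] {A : Finset E} (h : ForestOn ends A) (x : E → R) :
    ∃ φ : V → R, ∀ e ∈ A, φ (ends e).2 - φ (ends e).1 = x e := by
  refine ⟨fun v => -∑ f ∈ A, if v ∈ comp ends (A.erase f) (ends f).1 then x f else 0, fun e he => ?_⟩
  obtain ⟨h1, h2, h3⟩ := h.side_spec he
  simp only [neg_sub_neg, ← sum_sub_distrib]
  rw [sum_eq_single_of_mem e he]
  · rw [if_pos h1, if_neg h2, sub_zero]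
  · intro f hf hfe
    obtain ⟨-, -, h3'⟩ := h.side_spec hf
    rw [if_congr (h3' e he hfe.symm) rfl rfl, sub_self]

/-- A connected edge set spans all zero-sum vertex functions. -/
lemma ConnOn.exists_flow {R : Type w} [CommRing R] {A : Finset E} (h : ConnOn ends A) (v₀ : V) (r : V → R) :
    ∃ γ : E → R, (∀ f, f ∉ A → γ f = 0) ∧
      ∀ z, bd ends γ z = r z - (if v₀ = z then ∑ v, r v else 0) := by
  choose γ h0 h1 using fun v : V => (h v₀ v).chain
  refine ⟨fun f => ∑ v, r v * (γ v f : R), fun f hf => ?_, fun z => ?_⟩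
  · simp [h0 _ f hf]
  · have : bd ends (fun f => ∑ v, r v * (γ v f : R)) z = ∑ v, r v * bd ends (fun f => (γ v f : R)) z := by
      simp only [bd, mul_sum]
      rw [sum_comm (γ := V)]
      refine sum_congr rfl fun e _ => ?_
      simp only [mul_sub, mul_ite, mul_zero, sum_sub_distrib]
      split_ifs <;> simp
    rw [this]
    simp only [bd_cast, h1, Int.cast_sub, apply_ite (fun n : ℤ => (n : R)), Int.cast_one, Int.cast_zero,
      mul_sub, mul_ite, mul_one, mul_zero, sum_sub_distrib, sum_ite_eq', mem_univ, if_true]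
    congr 1
    split_ifs <;> simp

end forest

section potential
variable [Fintype V] [Fintype E] [DecidableEq V] [DecidableEq E] {ends : E → V × V}

/-- An edge labelling orthogonal to all cycles is a coboundary. -/
lemma exists_potential_of_orth (hconn : ConnOn ends univ) (v₀ : V) (x : E → ℤ)
    (hx : ∀ γ : E → ℤ, (∀ v, bd ends γ v = 0) → ∑ e, γ e * x e = 0) :
    ∃ φ : V → ℤ, φ v₀ = 0 ∧ ∀ e, φ (ends e).2 - φ (ends e).1 = x e := by
  choose γ _ h1 using fun v : V => (hconn v₀ v).chain
  refine ⟨fun v => ∑ e, γ v e * x e - ∑ e, γ v₀ e * x e, sub_self _, fun e => ?_⟩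
  have h := hx (fun f => γ (ends e).1 f + Pi.single (M := fun _ => ℤ) e 1 f - γ (ends e).2 f) fun v => by
    have e1 := bd_add ends (γ (ends e).1) (Pi.single e 1) v
    have e2 : bd ends (fun f => γ (ends e).1 f + Pi.single (M := fun _ => ℤ) e 1 f - γ (ends e).2 f) v =
        bd ends (γ (ends e).1 + Pi.single e 1) v - bd ends (γ (ends e).2) v := by
      simp only [bd, Pi.add_apply, ← sum_sub_distrib]
      refine sum_congr rfl fun f _ => ?_
      split_ifs <;> ring
    rw [e2, e1, h1, h1, bd_single]
    ring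
  simp only [sub_mul, add_mul, sum_sub_distrib, sum_add_distrib] at h
  rw [sum_eq_single (f := fun f => Pi.single (M := fun _ => ℤ) e 1 f * x f) e] at h
  · simp at h; linarith
  · intro b _ hb; simp [Pi.single_eq_of_ne hb]
  · simp

lemma ConnOn.eq_of_edges {A : Finset E} (h : ConnOn ends A) {α : Type w} {φ : V → α}
    (hφ : ∀ e ∈ A, φ (ends e).1 = φ (ends e).2) (x y : V) : φ x = φ y := by
  induction h x y with
  | refl => rfl
  | tail _ h2 ih =>
    obtain ⟨e, he, h' | h'⟩ := h2 <;> rw [ih] <;> have := hφ e he <;> rw [h'] at this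
    · exact this
    · exact this.symm

end potential

end Groth.Agent.H25Graph
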