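import Groth.Agent.H25Graph.Basic

/-! Cartier labellings, circuit-coprimality and the total blow-up graph. -/

set_option autoImplicit false
set_option linter.unusedSectionVars false

universe u w

namespace Groth.Agent.H25Graph

open Finset LabGraph

variable {V E : Type u} [Fintype V] [Fintype E] [DecidableEq V] [DecidableEq E]
variable {ends : E → V × V}

lemma mdeg_eq_neg_bd {l : E → ℕ} {φ : V → ℤ} (hφ : IsCartier ends l φ) (v : V) :
    mdeg ends l φ v = - bd ends (fun e => (φ (ends e).2 - φ (ends e).1) / (l e : ℤ)) v := by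
  simp only [mdeg, bd, ← sum_neg_distrib]
  refine sum_congr rfl fun e _ => ?_
  rw [← neg_sub (φ (ends e).2) (φ (ends e).1), Int.neg_ediv_of_dvd (dvd_sub_comm.1 (hφ e))]
  split_ifs <;> ring

lemma mdeg_eq_zero_iff {l : E → ℕ} (hl : ∀ e, 0 < l e) (hconn : Connected ends)
    {φ : V → ℤ} (hφ : IsCartier ends l φ) :
    (∀ v : V, mdeg ends l φ v = 0) ↔ ∀ v w : V, φ v = φ w := by
  constructor
  · intro h
    set q := fun e => (φ (ends e).2 - φ (ends e).1) / (l e : ℤ)
    have hq : ∀ e, φ (ends e).2 - φ (ends e).1 = (l e : ℤ) * q e := fun e =>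
      (Int.mul_ediv_cancel' (dvd_sub_comm.1 (hφ e))).symm
    have h0 : ∑ e, q e * ((l e : ℤ) * q e) = 0 := by
      simp only [← hq]
      rw [← sum_mul_bd]
      exact sum_eq_zero fun v _ => by rw [← neg_eq_zero, ← mul_neg, ← mdeg_eq_neg_bd hφ, h, mul_zero]
    rw [sum_eq_zero_iff_of_nonneg fun e _ => by nlinarith [mul_self_nonneg (q e)]] at h0
    refine ((connected_iff ends).1 hconn).2.eq_of_edges fun e _ => ?_
    have hl' : (l e : ℤ) ≠ 0 := by have := hl e; omega
    have := h0 e (mem_univ _)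
    simp only [mul_eq_zero, hl', false_or, or_self] at this
    have h5 := hq e
    rw [this, mul_zero, sub_eq_zero] at h5
    exact h5.symm
  · intro h v
    obtain ⟨c, rfl⟩ : ∃ c : ℤ, φ = fun _ => c := ⟨φ v, funext fun w => h w v⟩
    simp [mdeg]

variable (ends) in
/-- Every edge labelling is a coboundary modulo the labels. -/
def Solvable (l : E → ℕ) : Prop :=
  ∀ x : E → ℤ, ∃ φ : V → ℤ, ∀ e, (l e : ℤ) ∣ x e - (φ (ends e).2 - φ (ends e).1)

lemma coprime_of_solvable {l : E → ℕ} (h : Solvable ends l) : IsCircuitCoprime ends l := by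
  intro C hC
  obtain ⟨e, he⟩ := hC.1
  obtain ⟨γ, h0, h1, h2⟩ := EvenSet.exists_cycle (ends := ends) hC.2.1 he
  obtain ⟨φ, hφ⟩ := h (Pi.single e 1)
  have hd : ((C.gcd l : ℕ) : ℤ) ∣ ∑ f, γ f * (Pi.single (M := fun _ => ℤ) e 1 f - (φ (ends f).2 - φ (ends f).1)) := by
    refine dvd_sum fun f _ => ?_
    by_cases hf : f ∈ C
    · exact dvd_mul_of_dvd_right (dvd_trans (Int.natCast_dvd_natCast.2 (gcd_dvd hf)) (hφ f)) _
    · rw [h0 f hf, zero_mul]; exact dvd_zero _
  simp only [mul_sub] at hd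
  rw [sum_sub_distrib, sum_eq_single (f := fun f => γ f * Pi.single (M := fun _ => ℤ) e 1 f) e
    (fun b _ hb => by simp [Pi.single_eq_of_ne hb]) (by simp)] at hd
  have hz : ∑ f, (γ f * φ (ends f).2 - γ f * φ (ends f).1) = 0 := by
    simp only [← mul_sub]
    rw [← sum_mul_bd]
    simp [h2]
  rw [hz, Pi.single_eq_same, h1, one_mul, sub_zero] at hd
  exact Nat.eq_one_of_dvd_one (Int.natCast_dvd_natCast.1 (by simpa using hd))

/-- Localisation at one prime: the ideal of multipliers. -/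
lemma top_of_ordCompl {L : ℕ} (hL : L ≠ 0) (I : Ideal ℤ) (hLI : (L : ℤ) ∈ I)
    (h : ∀ p : ℕ, p.Prime → ((L / p ^ L.factorization p : ℕ) : ℤ) ∈ I) : (1 : ℤ) ∈ I := by
  obtain ⟨g, hg⟩ := (IsPrincipalIdealRing.principal I).principal
  rw [hg] at hLI ⊢ h
  simp only [Submodule.mem_span_singleton, smul_eq_mul] at *
  suffices g.natAbs = 1 by
    rcases Int.natAbs_eq_iff.1 this with h1 | h1
    · exact ⟨1, by simp [h1]⟩
    · exact ⟨-1, by simp [h1]⟩
  by_contra hne
  obtain ⟨p, hp, hpd⟩ := Nat.exists_prime_and_dvd hne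
  obtain ⟨c, hc⟩ := h p hp
  have : g.natAbs ∣ L / p ^ L.factorization p := by
    rw [← Int.natCast_dvd_natCast, Int.natAbs_dvd]
    exact ⟨c, by rw [← hc, mul_comm]⟩
  exact Nat.not_dvd_ordCompl hp hL (hpd.trans this)

lemma solvable_of_coprime {l : E → ℕ} (hl : ∀ e, 0 < l e) (h : IsCircuitCoprime ends l) :
    Solvable ends l := by
  set L := ∏ e, l e with hL
  have hL0 : L ≠ 0 := prod_ne_zero_iff.2 fun e _ => (hl e).ne'
  intro x
  let I : Ideal ℤ :=
    { carrier := {c | ∃ φ : V → ℤ, ∀ e, (l e : ℤ) ∣ c * x e - (φ (ends e).2 - φ (ends e).1)}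
      add_mem' := by
        rintro a b ⟨φ, hφ⟩ ⟨ψ, hψ⟩
        exact ⟨φ + ψ, fun e => by
          simp only [Pi.add_apply]
          rw [show (a + b) * x e - (φ (ends e).2 + ψ (ends e).2 - (φ (ends e).1 + ψ (ends e).1)) =
            (a * x e - (φ (ends e).2 - φ (ends e).1)) + (b * x e - (ψ (ends e).2 - ψ (ends e).1)) by ring]
          exact dvd_add (hφ e) (hψ e)⟩
      zero_mem' := ⟨0, fun e => by simp⟩
      smul_mem' := by
        rintro a b ⟨φ, hφ⟩
        exact ⟨a • φ, fun e => by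
          simp only [Pi.smul_apply, smul_eq_mul]
          rw [show a * b * x e - (a * φ (ends e).2 - a * φ (ends e).1) =
            a * (b * x e - (φ (ends e).2 - φ (ends e).1)) by ring]
          exact dvd_mul_of_dvd_right (hφ e) a⟩ }
  suffices (1 : ℤ) ∈ I by
    obtain ⟨φ, hφ⟩ := this
    exact ⟨φ, fun e => by simpa using hφ e⟩
  refine top_of_ordCompl hL0 I ⟨0, fun e => ?_⟩ fun p hp => ?_
  · simp only [Pi.zero_apply, sub_self, sub_zero]
    exact dvd_mul_of_dvd_left (Int.natCast_dvd_natCast.2 (dvd_prod_of_mem l (mem_univ e))) _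
  · have hF : ForestOn ends (univ.filter fun e => p ∣ l e) := fun C hC hc => by
      have : p ∣ C.gcd l := Finset.dvd_gcd fun e he => (mem_filter.1 (hC he)).2
      rw [h C hc] at this
      exact hp.one_lt.ne' (Nat.dvd_one.1 this)
    obtain ⟨φ, hφ⟩ := hF.exists_potential x
    refine ⟨fun v => ((L / p ^ L.factorization p : ℕ) : ℤ) * φ v, fun e => ?_⟩
    rw [← mul_sub, ← mul_sub]
    by_cases he : p ∣ l e
    · rw [hφ e (by simp [he]), sub_self, mul_zero]; exact dvd_zero _
    · refine dvd_mul_of_dvd_left (Int.natCast_dvd_natCast.2 ?_) _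
      refine (Nat.Coprime.pow_right (L.factorization p)
        (Nat.coprime_comm.1 ((Nat.Prime.coprime_iff_not_dvd hp).2 he))).dvd_of_dvd_mul_left ?_
      rw [Nat.ordProj_mul_ordCompl_eq_self]
      exact dvd_prod_of_mem l (mem_univ e)

lemma coprime_iff_orth {l : E → ℕ} (hl : ∀ e, 0 < l e) (hconn : Connected ends) :
    IsCircuitCoprime ends l ↔
      ∀ x : E → ℤ, ∃ y : E → ℤ, ∀ γ : E → ℤ, (∀ v : V, boundary ends γ v = 0) →
        ∑ e : E, γ e * (x e - (l e : ℤ) * y e) = 0 := by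
  constructor
  · intro h x
    obtain ⟨φ, hφ⟩ := solvable_of_coprime hl h x
    choose y hy using hφ
    refine ⟨y, fun γ hγ => ?_⟩
    have h2 : ∀ e, x e - (l e : ℤ) * y e = φ (ends e).2 - φ (ends e).1 := fun e => by have := hy e; linarith
    simp only [h2]
    rw [← sum_mul_bd]
    exact sum_eq_zero fun v _ => by rw [← boundary_eq_bd, hγ, mul_zero]
  · intro h
    refine coprime_of_solvable fun x => ?_
    obtain ⟨y, hy⟩ := h x
    obtain ⟨⟨v₀⟩, hc⟩ := (connected_iff ends).1 hconn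
    obtain ⟨φ, -, hφ⟩ := exists_potential_of_orth hc v₀ (fun e => x e - (l e : ℤ) * y e) hy
    exact ⟨φ, fun e => ⟨y e, by rw [hφ e]; ring⟩⟩

section blowup
variable {l : E → ℕ} (ends)

lemma pathVert_inl (hl : ∀ e, 0 < l e) (e : E) :
    pathVert ends l e 0 = Sum.inl (ends e).1 ∧ pathVert ends l e (l e) = Sum.inl (ends e).2 := by
  constructor
  · simp [pathVert]
  · simp [pathVert, (hl e).ne']

lemma pathVert_succ_lt {e : E} (i : Fin (l e - 1)) :
    pathVert ends l e ((i : ℕ) + 1) = Sum.inr ⟨e, i⟩ := by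
  have := i.isLt
  simp only [pathVert, Nat.succ_ne_zero, dite_false]
  rw [dif_pos (by omega)]
  simp

lemma pathVert_eq_inr_iff {e e' : E} {k : ℕ} {i : Fin (l e - 1)} :
    pathVert ends l e' k = Sum.inr ⟨e, i⟩ ↔ e' = e ∧ k = (i : ℕ) + 1 := by
  constructor
  · intro h
    unfold pathVert at h
    split_ifs at h with h1 h2
    simp only [Sum.inr.injEq, Sigma.mk.inj_iff] at h
    obtain ⟨rfl, h3⟩ := h
    simp only [heq_eq_eq] at h3
    refine ⟨rfl, ?_⟩
    rw [← h3]; simp; omega
  · rintro ⟨rfl, rfl⟩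
    exact pathVert_succ_lt ends i

lemma pathVert_eq_inl_iff {e : E} {k : ℕ} {v : V} (hk : k ≤ l e) (hl : 0 < l e) :
    pathVert ends l e k = Sum.inl v ↔ (k = 0 ∧ (ends e).1 = v) ∨ (k = l e ∧ (ends e).2 = v) := by
  unfold pathVert
  split_ifs with h1 h2
  · simp [h1, hl.ne]
  · simp [h1, h2.ne]
  · simp [show k = l e by omega, hl.ne']

/-- Boundary on the blow-up at a new vertex. -/
lemma bl_bd_inr (γ : BlEdge E l → ℤ) (e : E) (i : Fin (l e - 1)) :
    bd (blEnds ends l) γ (Sum.inr ⟨e, i⟩) =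
      γ ⟨e, ⟨i, by omega⟩⟩ - γ ⟨e, ⟨(i : ℕ) + 1, by omega⟩⟩ := by
  simp only [bd, blEnds, pathVert_eq_inr_iff, Fintype.sum_sigma, sum_sub_distrib]
  rw [sum_eq_single e, sum_eq_single (a := e)]
  · rw [sum_eq_single (⟨(i : ℕ), by omega⟩ : Fin (l e)), sum_eq_single (⟨(i : ℕ) + 1, by omega⟩ : Fin (l e))]
    · simp
    · intro k _ hk; rw [if_neg (fun h => hk (Fin.ext h.2))]
    · simp
    · intro k _ hk; rw [if_neg (fun h => hk (Fin.ext (Nat.succ_injective h.2)))]
    · simp
  · intro e' _ he'; exact sum_eq_zero fun k _ => if_neg fun h => he' h.1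
  · simp
  · intro e' _ he'; exact sum_eq_zero fun k _ => if_neg fun h => he' h.1
  · simp

/-- Boundary on the blow-up at an old vertex. -/
lemma bl_bd_inl (hl : ∀ e, 0 < l e) (γ : BlEdge E l → ℤ) (v : V) :
    bd (blEnds ends l) γ (Sum.inl v) = ∑ e : E,
      ((if (ends e).2 = v then γ ⟨e, ⟨l e - 1, by have := hl e; omega⟩⟩ else 0) -
        (if (ends e).1 = v then γ ⟨e, ⟨0, hl e⟩⟩ else 0)) := by
  simp only [bd, blEnds, Fintype.sum_sigma, sum_sub_distrib]
  congr 1
  · refine sum_congr rfl fun e _ => ?_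
    have := hl e
    rw [sum_eq_single (⟨l e - 1, by omega⟩ : Fin (l e))]
    · simp only [show l e - 1 + 1 = l e by omega, (pathVert_inl ends hl e).2, Sum.inl.injEq]
    · intro k _ hk
      refine if_neg (fun hh => ?_)
      revert hh
      change ¬ _
      rw [pathVert_eq_inl_iff ends k.isLt (hl e)]
      rintro (⟨h, -⟩ | ⟨h, -⟩)
      · omega
      · exact hk (Fin.ext (by simp; omega))
    · simp
  · refine sum_congr rfl fun e _ => ?_
    rw [sum_eq_single (⟨0, hl e⟩ : Fin (l e))]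
    · simp only [(pathVert_inl ends hl e).1, Sum.inl.injEq]
    · intro k _ hk
      refine if_neg (fun hh => ?_)
      revert hh
      change ¬ _
      rw [pathVert_eq_inl_iff ends k.isLt.le (hl e)]
      rintro (⟨h, -⟩ | ⟨h, -⟩)
      · exact hk (Fin.ext h)
      · exact k.isLt.ne h
    · simp

lemma bl_cartier (ψ : BlVert V E l → ℤ) : IsCartier (blEnds ends l) (fun _ => 1) ψ :=
  fun _ => by simp

lemma bl_mdeg (ψ : BlVert V E l → ℤ) (w : BlVert V E l) :
    mdeg (blEnds ends l) (fun _ => 1) ψ w =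
      - bd (blEnds ends l) (fun p => ψ (blEnds ends l p).2 - ψ (blEnds ends l p).1) w := by
  rw [mdeg_eq_neg_bd (bl_cartier ends ψ)]
  simp

lemma bl_telescope (hl : ∀ e, 0 < l e) (ψ : BlVert V E l → ℤ) (e : E) :
    ψ (Sum.inl (ends e).2) - ψ (Sum.inl (ends e).1) =
      ∑ k : Fin (l e), (ψ (blEnds ends l ⟨e, k⟩).2 - ψ (blEnds ends l ⟨e, k⟩).1) := by
  rw [← (pathVert_inl ends hl e).1, ← (pathVert_inl ends hl e).2,
    ← sum_range_sub (fun k => ψ (pathVert ends l e k)) (l e)]
  exact (Fin.sum_univ_eq_sum_range (fun k => ψ (pathVert ends l e (k + 1)) - ψ (pathVert ends l e k)) _).symm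

lemma blowup_descends (hl : ∀ e, 0 < l e) (α : V → ℤ) (ψ : BlVert V E l → ℤ)
    (hψ : ∀ w, mdeg (blEnds ends l) (fun _ => 1) ψ w = Sum.elim α (fun _ => (0 : ℤ)) w) :
    ∃ φ : V → ℤ, IsCartier ends l φ ∧ ∀ v : V, mdeg ends l φ v = α v := by
  set γ := fun p : BlEdge E l => ψ (blEnds ends l p).2 - ψ (blEnds ends l p).1
  have hstep : ∀ (e : E) (i : Fin (l e - 1)),
      γ ⟨e, ⟨i, by omega⟩⟩ = γ ⟨e, ⟨(i : ℕ) + 1, by omega⟩⟩ := fun e i => by
    have := hψ (Sum.inr ⟨e, i⟩)
    rw [bl_mdeg, bl_bd_inr] at this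
    simp only [Sum.elim_inr] at this
    linarith
  have hconst : ∀ (e : E) (k : Fin (l e)), γ ⟨e, k⟩ = γ ⟨e, ⟨0, hl e⟩⟩ := by
    rintro e ⟨k, hk⟩
    induction k with
    | zero => rfl
    | succ k ih => rw [← ih (by omega)]; exact (hstep e ⟨k, by omega⟩).symm
  have hd : ∀ e, ψ (Sum.inl (ends e).2) - ψ (Sum.inl (ends e).1) = (l e : ℤ) * γ ⟨e, ⟨0, hl e⟩⟩ := fun e => by
    rw [bl_telescope ends hl]
    simp only [show ∀ k : Fin (l e), ψ (blEnds ends l ⟨e, k⟩).2 - ψ (blEnds ends l ⟨e, k⟩).1 =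
      γ ⟨e, ⟨0, hl e⟩⟩ from hconst e, sum_const, card_univ, Fintype.card_fin, nsmul_eq_mul]
  have hC : IsCartier ends l (fun v => ψ (Sum.inl v)) := fun e => dvd_sub_comm.1 ⟨_, hd e⟩
  refine ⟨_, hC, fun v => ?_⟩
  have := hψ (Sum.inl v)
  rw [bl_mdeg, bl_bd_inl ends hl] at this
  simp only [Sum.elim_inl] at this
  rw [← this, mdeg_eq_neg_bd hC]
  unfold bd
  congr 1
  refine sum_congr rfl fun e _ => ?_
  have hl' : (l e : ℤ) ≠ 0 := by have := hl e; omega
  rw [show ψ (blEnds ends l ⟨e, ⟨l e - 1, _⟩⟩).2 - ψ (blEnds ends l ⟨e, ⟨l e - 1, _⟩⟩).1 =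
    γ ⟨e, ⟨0, hl e⟩⟩ from hconst e _]
  simp only [hd, Int.mul_ediv_cancel_left _ hl']
  rfl

lemma blowup_surjective_iff (hl : ∀ e, 0 < l e) :
    (∀ β : BlVert V E l → ℤ, ∃ (ψ : BlVert V E l → ℤ) (α : V → ℤ),
        ∀ w : BlVert V E l,
          mdeg (blEnds ends l) (fun _ => 1) ψ w + β w = Sum.elim α (fun _ => (0 : ℤ)) w) ↔
      IsCircuitCoprime ends l := by
  refine ⟨fun h => coprime_of_solvable fun x => ?_, fun h β => ?_⟩
  · obtain ⟨ψ, α, hψ⟩ := h (Sum.elim 0 fun p => if (p.2 : ℕ) = 0 then x p.1 else 0)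
    refine ⟨fun v => ψ (Sum.inl v), fun e => ?_⟩
    set γ := fun k : Fin (l e) => ψ (blEnds ends l ⟨e, k⟩).2 - ψ (blEnds ends l ⟨e, k⟩).1
    have hk : ∀ k : Fin (l e), γ k = γ ⟨0, hl e⟩ - (if (k : ℕ) = 0 then 0 else x e) := by
      rintro ⟨k, hk⟩
      induction k with
      | zero => simp
      | succ k ih =>
        have h2 := hψ (Sum.inr ⟨e, ⟨k, by omega⟩⟩)
        rw [bl_mdeg, bl_bd_inr] at h2
        simp only [Sum.elim_inr] at h2
        have := ih (by omega)
        simp only [γ, Nat.succ_ne_zero, if_false] at *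
        split_ifs at * <;> linarith
    refine ⟨x e - γ ⟨0, hl e⟩ + (0 : ℤ), ?_⟩
    rw [bl_telescope ends hl ψ e, sum_congr rfl fun k _ => hk k, sum_sub_distrib, sum_ite, sum_const_zero,
      zero_add, sum_const, sum_const, card_univ, Fintype.card_fin]
    have : ((univ : Finset (Fin (l e))).filter fun k : Fin (l e) => ¬(k : ℕ) = 0).card = l e - 1 := by
      rw [filter_not, card_sdiff, inter_univ, card_univ, Fintype.card_fin,
        show ((univ : Finset (Fin (l e))).filter fun k : Fin (l e) => (k : ℕ) = 0) = {⟨0, hl e⟩} by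
          ext k; simp [Fin.ext_iff]]
      simp
    rw [this, nsmul_eq_mul, nsmul_eq_mul, Nat.cast_sub (hl e : 1 ≤ l e)]
    push_cast; ring
  · let b : E → ℕ → ℤ := fun e j => if h : j < l e - 1 then β (Sum.inr ⟨e, ⟨j, h⟩⟩) else 0
    let s : E → ℤ := fun e => ∑ k ∈ range (l e), ∑ j ∈ range k, b e j
    obtain ⟨φ, hφ⟩ := solvable_of_coprime hl h (fun e => - s e)
    choose c hc using hφ
    let ψ : BlVert V E l → ℤ := Sum.elim φ fun p =>
      φ (ends p.1).1 + ∑ k ∈ range ((p.2 : ℕ) + 1), (-c p.1 - ∑ j ∈ range k, b p.1 j)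
    have hpath : ∀ e k, k ≤ l e → ψ (pathVert ends l e k) =
        φ (ends e).1 + ∑ k' ∈ range k, (-c e - ∑ j ∈ range k', b e j) := by
      intro e k hk
      rcases Nat.eq_zero_or_pos k with rfl | hk0
      · simp [(pathVert_inl ends hl e).1, ψ]
      rcases hk.lt_or_eq with hlt | rfl
      · have h2 := pathVert_succ_lt ends (l := l) (e := e) ⟨k - 1, by omega⟩
        simp only [show k - 1 + 1 = k by omega] at h2
        rw [h2]
        simp only [ψ, Sum.elim_inr, show k - 1 + 1 = k by omega]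
      · simp only [(pathVert_inl ends hl e).2, ψ, Sum.elim_inl, sum_sub_distrib, sum_const, card_range,
          nsmul_eq_mul]
        linarith [hc e]
    refine ⟨ψ, fun v => mdeg (blEnds ends l) (fun _ => 1) ψ (Sum.inl v) + β (Sum.inl v), ?_⟩
    rintro (v | ⟨e, i⟩)
    · simp
    · have hi := i.isLt
      rw [bl_mdeg, bl_bd_inr]
      simp only [Sum.elim_inr, blEnds]
      rw [hpath e _ (by omega), hpath e _ (by omega), hpath e _ (by omega),
        sum_range_succ _ ((i : ℕ) + 1), sum_range_succ _ (i : ℕ), sum_range_succ (fun j => b e j) (i : ℕ)]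
      simp only [b, dif_pos hi, Fin.eta]
      ring

end blowup

section elementary

open Classical in
/-- At one prime: decomposition into elementary pieces. -/
lemma prime_decomp (p : ℕ) (M : AddSubmonoid (V → ℤ)) (a : E → ℕ) (K : ℕ)
    (hM : ∀ (k : ℕ) (h : V → ℤ), (∀ e, k < a e → h (ends e).1 = h (ends e).2) →
      (fun v => (p : ℤ) ^ k * h v) ∈ M)
    (hK : ∀ e, a e ≤ K) (f : V → ℤ) (hf : ∀ e, (p : ℤ) ^ a e ∣ f (ends e).1 - f (ends e).2) : f ∈ M := by
  induction K generalizing M a f with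
  | zero => simpa using hM 0 f (fun e he => absurd (hK e) (by omega))
  | succ K ih =>
    rcases Nat.eq_zero_or_pos p with rfl | hp
    · have := hM 0 f fun e he => by
        have := hf e; rw [Nat.cast_zero, zero_pow (by omega), zero_dvd_iff] at this; exact sub_eq_zero.1 this
      simpa using this
    set A := univ.filter fun e => 0 < a e
    set h0 : V → ℤ := fun v =>
      f (@Classical.epsilon V ⟨v⟩ fun y => y ∈ comp ends A v)
    have hh0 : ∀ e, 0 < a e → h0 (ends e).1 = h0 (ends e).2 := fun e he => by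
      have heq : comp ends A (ends e).1 = comp ends A (ends e).2 := by
        ext y
        simp only [mem_comp]
        have := Reach.edge (ends := ends) (show e ∈ A by simp [A, he])
        exact ⟨fun h => this.symm.trans' h, fun h => this.trans' h⟩
      simp only [h0, heq]
    have hmod : ∀ x y, Reach ends A x y → (p : ℤ) ∣ f x - f y := fun x y h => by
      induction h with
      | refl => simp
      | tail _ h2 ih =>
        obtain ⟨e, he, h'⟩ := h2
        have hd : (p : ℤ) ∣ f (ends e).1 - f (ends e).2 :=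
          dvd_trans (dvd_pow_self _ (mem_filter.1 he).2.ne') (hf e)
        rcases h' with h' | h' <;> rw [h'] at hd
        · simpa using dvd_add ih hd
        · simpa using dvd_sub ih hd
    have hr : ∀ v, (p : ℤ) ∣ f v - h0 v := fun v =>
      hmod _ _ ((mem_comp ends A).1 (@Classical.epsilon_spec V (fun y => y ∈ comp ends A v) ⟨v, self_mem_comp _ _ _⟩))
    choose r hr' using hr
    have hr2 : (fun v => (p : ℤ) * r v) ∈ M := by
      refine ih (M.comap (AddMonoidHom.mulLeft (fun _ : V => (p : ℤ)))) (fun e => a e - 1)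
        (fun k h hh => ?_) (fun e => by have := hK e; omega) r (fun e => ?_)
      · rw [AddSubmonoid.mem_comap]
        have := hM (k + 1) h fun e he => hh e (by omega)
        convert this using 1
        funext v
        simp [pow_succ']
        ring
      · rcases Nat.eq_zero_or_pos (a e) with h | h
        · simp [h]
        · have h2 := hf e
          rw [show a e = a e - 1 + 1 by omega, pow_succ'] at h2
          have h3 : f (ends e).1 - f (ends e).2 = (p : ℤ) * (r (ends e).1 - r (ends e).2) := by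
            linear_combination hr' (ends e).1 - hr' (ends e).2 + hh0 e h
          rw [h3] at h2
          exact (mul_dvd_mul_iff_left (by omega)).1 h2
    have h4 : h0 ∈ M := by simpa using hM 0 h0 fun e he => hh0 e he
    have h5 : f = h0 + fun v => (p : ℤ) * r v := funext fun v => by
      simp only [Pi.add_apply]; linarith [hr' v]
    rw [h5]
    exact M.add_mem h4 hr2

lemma mem_span_elementary {l : E → ℕ} (hl : ∀ e, 0 < l e) {f : V → ℤ} (hf : IsCartier ends l f) :
    f ∈ Submodule.span ℤ {g : V → ℤ | ∃ n : ℕ, 0 < n ∧ (∀ v, (n : ℤ) ∣ g v) ∧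
      ∀ e, ¬ (l e ∣ n) → g (ends e).1 = g (ends e).2} := by
  set M := Submodule.span ℤ {g : V → ℤ | ∃ n : ℕ, 0 < n ∧ (∀ v, (n : ℤ) ∣ g v) ∧
      ∀ e, ¬ (l e ∣ n) → g (ends e).1 = g (ends e).2}
  set L := ∏ e, l e with hL
  have hL0 : L ≠ 0 := prod_ne_zero_iff.2 fun e _ => (hl e).ne'
  have hlL : ∀ e, l e ∣ L := fun e => dvd_prod_of_mem l (mem_univ e)
  have key : ∀ c : ℕ, 0 < c → ∀ (n : ℕ) (h : V → ℤ), 0 < n → (∀ e, ¬ l e ∣ c * n → h (ends e).1 = h (ends e).2) →
      (fun v => ((c * n : ℕ) : ℤ) * h v) ∈ M := fun c hc n h hn hh =>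
    Submodule.subset_span ⟨c * n, Nat.mul_pos hc hn, fun v => dvd_mul_right _ _,
      fun e he => by simp only [hh e he]⟩
  let I : Ideal ℤ :=
    { carrier := {c | c • f ∈ M}
      add_mem' := fun {a b} ha hb => by
        show (a + b) • f ∈ M
        rw [add_smul]; exact M.add_mem ha hb
      zero_mem' := by show (0 : ℤ) • f ∈ M; simp
      smul_mem' := fun a b hb => by
        show (a * b) • f ∈ M
        rw [mul_smul]; exact M.smul_mem _ hb }
  suffices (1 : ℤ) • f ∈ M by simpa using this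
  refine top_of_ordCompl hL0 I ?_ fun p hp => ?_
  · show (L : ℤ) • f ∈ M
    have := key L (Nat.pos_of_ne_zero hL0) 1 f one_pos fun e he => absurd (by simpa using hlL e) he
    simpa [Pi.smul_def] using this
  · set c := L / p ^ L.factorization p with hc
    have hc0 : 0 < c := Nat.ordCompl_pos p hL0
    show (c : ℤ) • f ∈ M
    refine prime_decomp (ends := ends) p (M.toAddSubmonoid.comap
      (DistribSMul.toAddMonoidHom (V → ℤ) (c : ℤ))) (fun e => (l e).factorization p)
      (univ.sup fun e => (l e).factorization p) (fun k h hh => ?_)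
      (fun e => Finset.le_sup (f := fun e => (l e).factorization p) (mem_univ e)) f (fun e => ?_)
    · rw [AddSubmonoid.mem_comap]
      show ((c : ℤ) • fun v => (p : ℤ) ^ k * h v) ∈ M
      have := key c hc0 (p ^ k) h (pow_pos hp.pos k) fun e he => hh e <| by
        by_contra hle
        refine he ?_
        rw [← Nat.ordProj_mul_ordCompl_eq_self (l e) p, mul_comm c]
        exact Nat.mul_dvd_mul (pow_dvd_pow p (not_lt.1 hle)) (Nat.ordCompl_dvd_ordCompl_of_dvd (hlL e) p)
      convert this using 1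
      funext v
      simp [mul_assoc]
    · refine dvd_trans ?_ (hf e)
      rw [← Nat.cast_pow]
      exact Int.natCast_dvd_natCast.2 (Nat.ordProj_dvd (l e) p)

/-- A cycle pairs to zero with an edge vector that does so with all circuit-supported cycles. -/
lemma orth_of_circuits (x : E → ℤ)
    (hx : ∀ C, IsCircuit ends C → ∀ γ : E → ℤ, (∀ f, f ∉ C → γ f = 0) → (∀ v, bd ends γ v = 0) →
      ∑ e, γ e * x e = 0) (γ : E → ℤ) (hγ : ∀ v, bd ends γ v = 0) : ∑ e, γ e * x e = 0 := by
  suffices ∀ S : Finset E, ∀ γ : E → ℤ, (∀ e, γ e ≠ 0 → e ∈ S) → (∀ v, bd ends γ v = 0) →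
      ∑ e, γ e * x e = 0 from this univ γ (fun _ _ => mem_univ _) hγ
  intro S
  induction S using Finset.strongInduction with
  | _ S ih =>
    intro γ hS hγ
    by_cases h0 : ∀ e, γ e = 0
    · simp [h0]
    push_neg at h0
    obtain ⟨e, he⟩ := h0
    have hr : Reach ends (S.erase e) (ends e).1 (ends e).2 :=
      reach_of_cycle hγ (fun f hf => by by_contra h; exact hf (hS f h)) he
    obtain ⟨C, hC, hsub, heC⟩ := exists_circuit_of_reach (notMem_erase e S) hr
    rw [insert_erase (hS e he)] at hsub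
    obtain ⟨η, η0, η1, η2⟩ := EvenSet.exists_cycle (ends := ends) hC.2.1 heC
    have hz := hx C hC η η0 η2
    have := ih (S.erase e) (erase_ssubset (hS e he)) (γ + fun f => (-γ e) * η f) (fun f hf => ?_) (fun v => ?_)
    · simp only [Pi.add_apply, add_mul, sum_add_distrib, mul_assoc, ← mul_sum, hz, mul_zero, add_zero] at this
      exact this
    · refine mem_erase.2 ⟨?_, ?_⟩
      · rintro rfl; simp [η1] at hf
      · by_contra hfS
        have h1 : γ f = 0 := by by_contra h; exact hfS (hS f h)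
        simp [h1, η0 f fun h => hfS (hsub h)] at hf
    · rw [bd_add, bd_smul, hγ, η2]; ring

lemma mem_closure_preAchievable {L : Type w} (lab : E → L) (n : E → ℕ)
    (hconn : Connected ends)
    (hcirc : ∀ C : Finset E, IsCircuit ends C → ∀ e ∈ C, ∀ e' ∈ C, lab e = lab e')
    (f : V → ℤ) (hf : IsCartier ends n f) :
    f ∈ AddSubmonoid.closure {g : V → ℤ | IsCartier ends n g ∧ (∃ B : Finset E, (∀ e ∈ B, ∀ e' ∈ B, lab e = lab e') ∧ ∀ e, e ∉ B → g (ends e).1 = g (ends e).2)} ∧
    ∀ v₀ : V, f v₀ = 0 →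
      f ∈ AddSubmonoid.closure {g : V → ℤ | IsCartier ends n g ∧ (∃ B : Finset E, (∀ e ∈ B, ∀ e' ∈ B, lab e = lab e') ∧ ∀ e, e ∉ B → g (ends e).1 = g (ends e).2) ∧ g v₀ = 0} := by
  classical
  obtain ⟨⟨v₁⟩, hc⟩ := (connected_iff ends).1 hconn
  have main : ∀ (f : V → ℤ), IsCartier ends n f → ∀ v₀ : V, f v₀ = 0 →
      f ∈ AddSubmonoid.closure {g : V → ℤ | IsCartier ends n g ∧ (∃ B : Finset E, (∀ e ∈ B, ∀ e' ∈ B, lab e = lab e') ∧ ∀ e, e ∉ B → g (ends e).1 = g (ends e).2) ∧ g v₀ = 0} := by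
    intro f hf v₀ hv₀
    have hg : ∀ c : L, ∃ g : V → ℤ, g v₀ = 0 ∧ ∀ e, g (ends e).2 - g (ends e).1 =
        if lab e = c then f (ends e).2 - f (ends e).1 else 0 := fun c => by
      refine exists_potential_of_orth hc v₀ _ (orth_of_circuits _ fun C hC γ h0 h1 => ?_)
      obtain ⟨e₀, he₀⟩ := hC.1
      have : ∀ e, γ e * (if lab e = c then f (ends e).2 - f (ends e).1 else 0) =
          (if lab e₀ = c then 1 else 0) * (γ e * (f (ends e).2 - f (ends e).1)) := fun e => by
        by_cases he : e ∈ C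
        · rw [hcirc C hC e he e₀ he₀]; split_ifs <;> simp
        · simp [h0 e he]
      rw [sum_congr rfl fun e _ => this e, ← mul_sum, ← sum_mul_bd]
      simp [h1]
    choose g hg0 hg1 using hg
    have hsum : f = ∑ c ∈ univ.image lab, g c := by
      funext v
      have := hc.eq_of_edges (φ := fun v => f v - ∑ c ∈ univ.image lab, g c v) (fun e _ => by
        have h1 : ∑ c ∈ univ.image lab, g c (ends e).2 - ∑ c ∈ univ.image lab, g c (ends e).1 =
            f (ends e).2 - f (ends e).1 := by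
          rw [← sum_sub_distrib]
          simp only [hg1]
          rw [sum_ite_eq, if_pos (mem_image_of_mem _ (mem_univ e))]
        linarith) v v₀
      simp only [hv₀, hg0, sum_const_zero, sub_zero] at this
      simp only [Finset.sum_apply]
      linarith
    rw [hsum]
    refine sum_mem fun c _ => AddSubmonoid.subset_closure ⟨fun e => ?_, ⟨univ.filter fun e => lab e = c,
      fun e he e' he' => (mem_filter.1 he).2.trans (mem_filter.1 he').2.symm, fun e he => ?_⟩, hg0 c⟩
    · rw [← neg_sub, dvd_neg, hg1]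
      split_ifs
      · exact dvd_sub_comm.1 (hf e)
      · exact dvd_zero _
    · have := hg1 c e
      rw [if_neg (by simpa using he), sub_eq_zero] at this
      exact this.symm
  refine ⟨?_, main f hf⟩
  have hd : IsCartier ends n (fun v => f v - f v₁) := fun e => by
    have := hf e; simpa using this
  have hconst : (fun _ => f v₁) ∈ AddSubmonoid.closure {g : V → ℤ | IsCartier ends n g ∧ (∃ B : Finset E, (∀ e ∈ B, ∀ e' ∈ B, lab e = lab e') ∧ ∀ e, e ∉ B → g (ends e).1 = g (ends e).2)} :=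
    AddSubmonoid.subset_closure ⟨fun e => by simp, ∅, by simp, fun _ _ => rfl⟩
  have h2 : (fun v => f v - f v₁) ∈ AddSubmonoid.closure {g : V → ℤ | IsCartier ends n g ∧ (∃ B : Finset E, (∀ e ∈ B, ∀ e' ∈ B, lab e = lab e') ∧ ∀ e, e ∉ B → g (ends e).1 = g (ends e).2)} := by
    refine AddSubmonoid.closure_mono ?_ (main _ hd v₁ (sub_self _))
    exact fun g hg => ⟨hg.1, hg.2.1⟩
  convert (AddSubmonoid.closure _).add_mem h2 hconst using 1
  funext v; simp

end elementary

end Groth.Agent.H25Graph
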