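import Groth.Agent.H25Graph.Basic
import Groth.Prelude.Def_W4c2conddiscmodels

/-! Component groups of multiplicity functions and contraction of chains. -/

set_option autoImplicit false
set_option linter.unusedSectionVars false

universe u

namespace Groth.Agent.H25Graph

open Finset LabGraph

variable {V E : Type u} [Fintype V] [Fintype E] [DecidableEq V] [DecidableEq E]
variable {ends : E → V × V} {β : V → ℤ}

/-- Flow of a vertex function relative to `β`. -/
def flw (ends : E → V × V) (β Z : V → ℤ) (e : E) : ℤ :=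
  β (ends e).1 * Z (ends e).2 - β (ends e).2 * Z (ends e).1

lemma sum_edgeMult (v : V) (Z : V → ℤ) :
    ∑ u ∈ univ.erase v, (edgeMult ends v u : ℤ) * Z u =
      ∑ e, ((if (ends e).1 = v ∧ (ends e).2 ≠ v then Z (ends e).2 else 0) +
        (if (ends e).2 = v ∧ (ends e).1 ≠ v then Z (ends e).1 else 0)) := by
  simp only [edgeMult, natCast_card_filter, sum_mul]
  rw [sum_comm]
  refine sum_congr rfl fun e _ => ?_
  rcases hx : ends e with ⟨a, b⟩
  simp only [Prod.mk.injEq]
  by_cases ha : a = v <;> by_cases hb : b = v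
  · subst ha hb
    simp only [ne_eq, not_true_eq_false, and_false, if_false, add_zero]
    refine sum_eq_zero fun u hu => ?_
    rw [if_neg (by rintro (⟨-, h⟩ | ⟨h, -⟩) <;> exact (mem_erase.1 hu).1 h.symm), zero_mul]
  · subst ha
    simp [hb, Ne.symm hb, ite_mul, eq_comm (a := b)]
  · subst hb
    simp [ha, Ne.symm ha, ite_mul, eq_comm (a := a)]
  · simp [ha, hb]

lemma bd_flw (β Z : V → ℤ) (v : V) :
    -bd ends (flw ends β Z) v = β v * (∑ u ∈ univ.erase v, (edgeMult ends v u : ℤ) * Z u) -
      Z v * ∑ u ∈ univ.erase v, β u * (edgeMult ends v u : ℤ) := by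
  simp only [mul_comm (β _) (edgeMult ends v _ : ℤ)]
  rw [sum_edgeMult, sum_edgeMult, bd, ← sum_neg_distrib, mul_sum, mul_sum, ← sum_sub_distrib]
  refine sum_congr rfl fun e _ => ?_
  rcases hx : ends e with ⟨a, b⟩
  simp only [flw, hx]
  by_cases ha : a = v <;> by_cases hb : b = v <;> simp [ha, hb] <;> ring

lemma mfMatrix_diag (hβ : IsMultFn ends β) (v : V) :
    mfMatrix ends β v v * β v = -∑ u ∈ univ.erase v, β u * (edgeMult ends v u : ℤ) := by
  rw [mfMatrix, if_pos rfl]
  exact Int.ediv_mul_cancel ((dvd_neg).2 (hβ v).2)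

lemma mulVec_apply' (Z : V → ℤ) (v : V) :
    Matrix.mulVecLin (mfMatrix ends β) Z v =
      mfMatrix ends β v v * Z v + ∑ u ∈ univ.erase v, (edgeMult ends v u : ℤ) * Z u := by
  rw [Matrix.mulVecLin_apply, Matrix.mulVec, dotProduct, ← add_sum_erase _ _ (mem_univ v)]
  congr 1
  refine sum_congr rfl fun u hu => ?_
  rw [mfMatrix, if_neg (mem_erase.1 hu).1.symm]

lemma mul_mulVec (hβ : IsMultFn ends β) (Z : V → ℤ) (v : V) :
    β v * Matrix.mulVecLin (mfMatrix ends β) Z v = -bd ends (flw ends β Z) v := by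
  rw [bd_flw, mulVec_apply']
  linear_combination Z v * mfMatrix_diag hβ v

lemma betaHom_apply' (x : V → ℤ) : betaHom β x = ∑ v, x v * β v := by
  simp [betaHom, Fintype.linearCombination_apply]

lemma betaHom_mulVec (hβ : IsMultFn ends β) (Z : V → ℤ) :
    betaHom β (Matrix.mulVecLin (mfMatrix ends β) Z) = 0 := by
  rw [betaHom_apply']
  simp only [mul_comm _ (β _), mul_mulVec hβ, sum_neg_distrib, sum_bd]
  simp

section ctr
variable {D : Finset E}

lemma ctrFn_mk (hconst : ∀ e ∈ D, β (ends e).1 = β (ends e).2) (v : V) :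
    ctrFn ends D β (DualGr.ctrMk ends D v) = β v := by
  have key : ∀ x y, Relation.EqvGen (DualGr.CtrRel ends D) x y → β x = β y := by
    intro x y h
    induction h with
    | rel a b hab =>
      obtain ⟨e, he, h'⟩ := hab
      have := hconst e he
      rwa [h'] at this
    | refl a => rfl
    | symm a b _ ih => exact ih.symm
    | trans a b c _ _ i1 i2 => exact i1.trans i2
  exact key _ _ (Quotient.exact (Quotient.out_eq (s := DualGr.ctrSetoid ends D) (DualGr.ctrMk ends D v)))

lemma push_bd_flw (hconst : ∀ e ∈ D, β (ends e).1 = β (ends e).2) (z : DualGr.CtrVert ends D → ℤ)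
    (c : DualGr.CtrVert ends D) :
    bd (DualGr.ctrEnds ends D) (flw (DualGr.ctrEnds ends D) (ctrFn ends D β) z) c =
      ∑ v ∈ univ.filter (fun v => DualGr.ctrMk ends D v = c),
        bd ends (flw ends β fun v => z (DualGr.ctrMk ends D v)) v := by
  have h := congrFun (DualGr.pushV_boundaryHom ends D (flw ends β fun v => z (DualGr.ctrMk ends D v))) c
  refine Eq.trans ?_ h.symm
  show bd _ _ c = bd _ _ c
  congr 1
  funext e
  simp [flw, DualGr.resE, DualGr.ctrEnds, ctrFn_mk hconst]

lemma isMultFn_ctrFn (hβ : IsMultFn ends β) (hconst : ∀ e ∈ D, β (ends e).1 = β (ends e).2) :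
    IsMultFn (DualGr.ctrEnds ends D) (ctrFn ends D β) := by
  intro c
  obtain ⟨v₀, rfl⟩ := DualGr.ctrMk_surjective ends D c
  refine ⟨ctrFn_mk hconst v₀ ▸ (hβ v₀).1, ?_⟩
  have h1 := bd_flw (ends := DualGr.ctrEnds ends D) (ctrFn ends D β)
    (Pi.single (DualGr.ctrMk ends D v₀) 1) (DualGr.ctrMk ends D v₀)
  rw [push_bd_flw hconst, sum_eq_zero (s := univ.erase _)
    (fun u hu => by rw [Pi.single_eq_of_ne (mem_erase.1 hu).1, mul_zero]), Pi.single_eq_same] at h1
  have h2 : ∑ u ∈ univ.erase (DualGr.ctrMk ends D v₀), ctrFn ends D β u *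
      (edgeMult (DualGr.ctrEnds ends D) (DualGr.ctrMk ends D v₀) u : ℤ) =
      ∑ v ∈ univ.filter (fun v => DualGr.ctrMk ends D v = DualGr.ctrMk ends D v₀),
        bd ends (flw ends β fun v => (Pi.single (DualGr.ctrMk ends D v₀) 1 : _ → ℤ) (DualGr.ctrMk ends D v)) v := by
    linarith
  rw [h2]
  refine dvd_sum fun v hv => ?_
  rw [← neg_neg (bd ends _ v), ← mul_mulVec hβ, ← (mem_filter.1 hv).2, ctrFn_mk hconst]
  exact dvd_neg.2 (dvd_mul_right _ _)

lemma mulVec_ctr (hβ : IsMultFn ends β) (hconst : ∀ e ∈ D, β (ends e).1 = β (ends e).2)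
    (z : DualGr.CtrVert ends D → ℤ) :
    Matrix.mulVecLin (mfMatrix (DualGr.ctrEnds ends D) (ctrFn ends D β)) z =
      DualGr.pushV ends D (Matrix.mulVecLin (mfMatrix ends β) fun v => z (DualGr.ctrMk ends D v)) := by
  funext c
  refine mul_left_cancel₀ (isMultFn_ctrFn hβ hconst c).1.ne' ?_
  rw [mul_mulVec (isMultFn_ctrFn hβ hconst), push_bd_flw hconst]
  simp only [DualGr.pushV, LinearMap.coe_mk, AddHom.coe_mk, mul_sum, ← sum_neg_distrib]
  refine sum_congr rfl fun v hv => ?_
  rw [← mul_mulVec hβ, ← (mem_filter.1 hv).2, ctrFn_mk hconst]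

end ctr

section chain
variable {k : ℕ} {f : Fin (k + 1) → V} {e : Fin k → E}

lemma chain_const_edges (hC : IsChain ends f e) (hconst : ∀ i j, β (f i) = β (f j)) :
    ∀ a ∈ univ.image e, β (ends a).1 = β (ends a).2 := by
  intro a ha
  obtain ⟨i, -, rfl⟩ := mem_image.1 ha
  rcases hC.2.2 i with h | h <;> rw [h] <;> exact hconst _ _

lemma chain_ctrMk_eq (hC : IsChain ends f e) (i : Fin (k + 1)) :
    DualGr.ctrMk ends (univ.image e) (f i) = DualGr.ctrMk ends (univ.image e) (f 0) := by
  induction i using Fin.induction with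
  | zero => rfl
  | succ i ih =>
    rw [← ih]
    have := DualGr.ctrMk_fst_eq_ctrMk_snd ends (univ.image e) (mem_image_of_mem e (mem_univ i))
    rcases hC.2.2 i with h | h <;> rw [h] at this
    · exact this.symm
    · exact this

lemma chain_class (hC : IsChain ends f e) {v w : V}
    (h : DualGr.ctrMk ends (univ.image e) v = DualGr.ctrMk ends (univ.image e) w) :
    v = w ∨ (v ∈ Set.range f ∧ w ∈ Set.range f) := by
  have h' : Relation.EqvGen (DualGr.CtrRel ends (univ.image e)) v w := Quotient.exact h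
  clear h
  induction h' with
  | rel a b hab =>
    obtain ⟨x, hx, h'⟩ := hab
    obtain ⟨i, -, rfl⟩ := mem_image.1 hx
    rcases hC.2.2 i with h | h <;> rw [h] at h' <;> obtain ⟨rfl, rfl⟩ := Prod.mk.inj h' <;>
      exact Or.inr ⟨⟨_, rfl⟩, ⟨_, rfl⟩⟩
  | refl a => exact Or.inl rfl
  | symm a b _ ih => exact ih.imp Eq.symm And.symm
  | trans a b c _ _ i1 i2 =>
    rcases i1 with rfl | i1
    · exact i2
    · rcases i2 with rfl | i2
      · exact Or.inr i1
      · exact Or.inr ⟨i1.1, i2.2⟩

lemma liftAt_f0 (x : DualGr.CtrVert ends (univ.image e) → ℤ) :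
    liftAt ends (univ.image e) (f 0) x (f 0) = x (DualGr.ctrMk ends (univ.image e) (f 0)) := by
  simp [liftAt]

/-- Moving the chain mass to its first vertex. -/
lemma sub_liftAt_push (hC : IsChain ends f e) (y : V → ℤ) :
    y - liftAt ends (univ.image e) (f 0) (DualGr.pushV ends (univ.image e) y) =
      ∑ i, y (f i) • ((Pi.single (f i) 1 : V → ℤ) - Pi.single (f 0) 1) := by
  funext v
  simp only [Finset.sum_apply, Pi.smul_apply, Pi.sub_apply, smul_eq_mul, mul_sub, sum_sub_distrib]
  by_cases hv : v ∈ Set.range f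
  · obtain ⟨i, rfl⟩ := hv
    rw [sum_eq_single (f := fun j => y (f j) * (Pi.single (f j) 1 : V → ℤ) (f i)) i
      (fun j _ hj => by rw [Pi.single_eq_of_ne (hC.1.ne hj.symm), mul_zero]) (by simp),
      Pi.single_eq_same, mul_one]
    rcases eq_or_ne i 0 with rfl | hi
    · simp only [liftAt_f0, Pi.single_eq_same, mul_one]
      congr 1
      show ∑ x ∈ univ.filter _, y x = _
      rw [← sum_image (g := f) (f := y) hC.1.injOn]
      refine sum_congr ?_ fun _ _ => rfl
      ext w
      simp only [mem_filter, mem_univ, true_and, mem_image]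
      refine ⟨fun h => ?_, fun ⟨j, hj⟩ => hj ▸ chain_ctrMk_eq hC j⟩
      rcases chain_class hC h with rfl | ⟨⟨j, hj⟩, -⟩
      exacts [⟨0, rfl⟩, ⟨j, hj⟩]
    · simp only [Pi.single_eq_of_ne (hC.1.ne hi), mul_zero, sum_const_zero, liftAt,
        chain_ctrMk_eq hC i, true_and, ne_eq, hC.1.ne hi, not_false_eq_true, if_true, sub_zero]
  · have h1 : ∀ j, v ≠ f j := fun j hh => hv ⟨j, hh.symm⟩
    simp only [Pi.single_eq_of_ne (h1 _), mul_zero, sum_const_zero, sub_zero, sub_eq_zero]
    rw [liftAt, if_neg]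
    · show y v = ∑ x ∈ univ.filter _, y x
      rw [show (univ.filter fun x => DualGr.ctrMk ends (univ.image e) x = DualGr.ctrMk ends (univ.image e) v) = {v}
        from ?_, sum_singleton]
      ext w
      simp only [mem_filter, mem_univ, true_and, mem_singleton]
      refine ⟨fun h => ?_, fun h => h ▸ rfl⟩
      rcases chain_class hC h with h' | ⟨-, h'⟩
      exacts [h', absurd h' hv]
    · rintro ⟨h, hne⟩
      rcases chain_class hC h with h' | ⟨h', -⟩
      exacts [hne h', hv h']

lemma betaHom_liftAt (hC : IsChain ends f e) (hconst : ∀ i j, β (f i) = β (f j))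
    (x : DualGr.CtrVert ends (univ.image e) → ℤ) :
    betaHom β (liftAt ends (univ.image e) (f 0) x) = betaHom (ctrFn ends (univ.image e) β) x := by
  rw [betaHom_apply', betaHom_apply', ← sum_fiberwise univ (DualGr.ctrMk ends (univ.image e))]
  refine sum_congr rfl fun c _ => ?_
  obtain ⟨v, hv, hz⟩ : ∃ v, DualGr.ctrMk ends (univ.image e) v = c ∧
      (DualGr.ctrMk ends (univ.image e) v = DualGr.ctrMk ends (univ.image e) (f 0) → v = f 0) := by
    obtain ⟨v, rfl⟩ := DualGr.ctrMk_surjective ends _ c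
    by_cases h : DualGr.ctrMk ends (univ.image e) v = DualGr.ctrMk ends (univ.image e) (f 0)
    · exact ⟨f 0, h.symm, fun _ => rfl⟩
    · exact ⟨v, rfl, fun h' => absurd h' h⟩
  rw [sum_eq_single_of_mem v (mem_filter.2 ⟨mem_univ _, hv⟩), liftAt, if_neg (fun h => h.2 (hz h.1)), ← hv,
    ctrFn_mk (chain_const_edges hC hconst)]
  intro w hw hwv
  have hw' := (mem_filter.1 hw).2.trans hv.symm
  rcases chain_class hC hw' with h | ⟨⟨j, rfl⟩, ⟨i, rfl⟩⟩
  · exact absurd h hwv
  · have : f i = f 0 := hz (chain_ctrMk_eq hC i)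
    rw [liftAt, if_pos ⟨chain_ctrMk_eq hC j, this ▸ hwv⟩, zero_mul]

lemma push_liftAt (hC : IsChain ends f e) (x : DualGr.CtrVert ends (univ.image e) → ℤ) :
    DualGr.pushV ends (univ.image e) (liftAt ends (univ.image e) (f 0) x) = x := by
  funext c
  show ∑ v ∈ univ.filter _, liftAt ends (univ.image e) (f 0) x v = _
  obtain ⟨v, hv, hz⟩ : ∃ v, DualGr.ctrMk ends (univ.image e) v = c ∧
      (DualGr.ctrMk ends (univ.image e) v = DualGr.ctrMk ends (univ.image e) (f 0) → v = f 0) := by
    obtain ⟨v, rfl⟩ := DualGr.ctrMk_surjective ends _ c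
    by_cases h : DualGr.ctrMk ends (univ.image e) v = DualGr.ctrMk ends (univ.image e) (f 0)
    · exact ⟨f 0, h.symm, fun _ => rfl⟩
    · exact ⟨v, rfl, fun h' => absurd h' h⟩
  rw [sum_eq_single_of_mem v (mem_filter.2 ⟨mem_univ _, hv⟩), liftAt, if_neg (fun h => h.2 (hz h.1)), ← hv]
  intro w hw hwv
  have hw' := (mem_filter.1 hw).2.trans hv.symm
  rcases chain_class hC hw' with h | ⟨⟨j, rfl⟩, ⟨i, rfl⟩⟩
  · exact absurd h hwv
  · have : f i = f 0 := hz (chain_ctrMk_eq hC i)
    rw [liftAt, if_pos ⟨chain_ctrMk_eq hC j, this ▸ hwv⟩]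

lemma isMultFn_chain (hβ : IsMultFn ends β) (hC : IsChain ends f e) (hconst : ∀ i j, β (f i) = β (f j)) :
    IsMultFn (DualGr.ctrEnds ends (univ.image e)) (ctrFn ends (univ.image e) β) :=
  isMultFn_ctrFn hβ (chain_const_edges hC hconst)

/-- A connecting chain edge separates the chain. -/
lemma chain_sep (hC : IsChain ends f e) (hconn : ∀ i, IsConnecting ends (e i)) (i : Fin k) :
    ∃ S : Finset V, (∀ a, a ≠ e i → ((ends a).1 ∈ S ↔ (ends a).2 ∈ S)) ∧
      ∀ j : Fin (k + 1), (f j ∈ S ↔ (i : ℕ) < (j : ℕ)) := by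
  obtain ⟨S₀, hS₀⟩ := hconn i
  obtain ⟨S, hS, hSi⟩ : ∃ S : Finset V, (∀ a, ((ends a).1 ∈ S ↔ (ends a).2 ∉ S) ↔ a = e i) ∧ f i.succ ∈ S := by
    by_cases h : f i.succ ∈ S₀
    · exact ⟨S₀, hS₀, h⟩
    · refine ⟨S₀ᶜ, fun a => ?_, mem_compl.2 h⟩
      rw [← hS₀ a]
      simp only [mem_compl]
      tauto
  have hcl : ∀ a, a ≠ e i → ((ends a).1 ∈ S ↔ (ends a).2 ∈ S) := fun a ha => by
    have := mt (hS a).1 ha
    tauto
  have h0 : f i.castSucc ∉ S := by
    have := (hS (e i)).2 rfl
    rcases hC.2.2 i with h | h <;> rw [h] at this <;> simp only [] at this <;> tauto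
  have hnb : ∀ j : Fin k, j ≠ i → (f j.castSucc ∈ S ↔ f j.succ ∈ S) := fun j hj => by
    have := hcl (e j) (hC.2.1.ne hj)
    rcases hC.2.2 j with h | h <;> rw [h] at this <;> simp only [] at this
    · exact this
    · exact this.symm
  refine ⟨S, hcl, fun j => ?_⟩
  rcases le_or_gt (j : ℕ) (i : ℕ) with hle | hgt
  · refine iff_of_false (fun hh => ?_) (by omega)
    suffices ∀ d (j : Fin (k + 1)), (j : ℕ) + d = (i : ℕ) → f j ∉ S from
      this ((i : ℕ) - j) j (by omega) hh
    intro d
    induction d with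
    | zero => intro j hj; rwa [show j = i.castSucc from Fin.ext (by simpa using hj)]
    | succ d ih =>
      intro j hj
      have := hnb ⟨j, by omega⟩ (fun h => by rw [Fin.ext_iff] at h; simp at h; omega)
      rw [show j = (⟨j, by omega⟩ : Fin k).castSucc from Fin.ext (by simp), this]
      exact ih _ (by simp; omega)
  · refine iff_of_true ?_ hgt
    suffices ∀ d (j : Fin (k + 1)), (i : ℕ) + 1 + d = (j : ℕ) → f j ∈ S from
      this ((j : ℕ) - i - 1) j (by omega)
    intro d
    induction d with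
    | zero => intro j hj; rwa [show j = i.succ from Fin.ext (by simp; omega)]
    | succ d ih =>
      intro j hj
      have := hnb ⟨(j : ℕ) - 1, by omega⟩ (fun h => by rw [Fin.ext_iff] at h; simp at h; omega)
      rw [show j = (⟨(j : ℕ) - 1, by omega⟩ : Fin k).succ from Fin.ext (by simp; omega), ← this]
      exact ih _ (by simp; omega)

lemma edgeMult_symm (v w : V) : edgeMult ends v w = edgeMult ends w v := by
  simp only [edgeMult, or_comm]

lemma chain_edgeMult (hC : IsChain ends f e) (hconn : ∀ i, IsConnecting ends (e i)) {a b : Fin (k + 1)}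
    (hab : (a : ℕ) < b) : edgeMult ends (f a) (f b) = if (b : ℕ) = a + 1 then 1 else 0 := by
  have hi : ∀ i : Fin k, (a : ℕ) ≤ i → (i : ℕ) < b → ∀ x, (ends x = (f a, f b) ∨ ends x = (f b, f a)) → x = e i := by
    intro i h1 h2 x hx
    obtain ⟨S, hcl, hS⟩ := chain_sep hC hconn i
    by_contra hne
    have hb : f b ∈ S := (hS b).2 h2
    have ha : f a ∉ S := fun hh => by have := (hS a).1 hh; omega
    have := hcl x hne
    rcases hx with hx | hx <;> rw [hx] at this <;> simp only [] at this <;> tauto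
  have hak : (a : ℕ) < k := by omega
  split_ifs with h
  · rw [edgeMult, card_eq_one]
    refine ⟨e ⟨a, hak⟩, ?_⟩
    ext x
    simp only [mem_filter, mem_univ, true_and, mem_singleton]
    refine ⟨hi ⟨a, hak⟩ le_rfl hab x, ?_⟩
    rintro rfl
    have := hC.2.2 ⟨a, hak⟩
    rwa [show (⟨a, hak⟩ : Fin k).castSucc = a from Fin.ext rfl,
      show (⟨a, hak⟩ : Fin k).succ = b from Fin.ext (by simp; omega)] at this
  · rw [edgeMult, card_eq_zero, filter_eq_empty_iff]
    intro x _ hx
    have h1 := hi ⟨a, hak⟩ le_rfl hab x hx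
    have h2 := hi ⟨(a : ℕ) + 1, by omega⟩ (by simp) (by simp; omega) x hx
    have := hC.2.1 (h1.symm.trans h2)
    simp [Fin.ext_iff] at this

end chain

section chainM
variable {m : ℕ} {f : Fin (m + 1) → V} {e : Fin m → E}

lemma chain_col (hβ : IsMultFn ends β) (hC : IsChain ends f e) (hconn : ∀ i, IsConnecting ends (e i))
    (hβm : ∀ i, β (f i) = m) (hα : ∀ i, mfMatrix ends β (f i) (f i) = -2)
    (i : Fin (m + 1)) (h0 : 0 < (i : ℕ)) (hm : (i : ℕ) < m) :
    (fun v => mfMatrix ends β v (f i)) = ((Pi.single (f ⟨(i : ℕ) - 1, by omega⟩) 1 : V → ℤ) - Pi.single (f i) 1) +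
      (Pi.single (f ⟨(i : ℕ) + 1, by omega⟩) 1 - Pi.single (f i) 1) := by
  set p : Fin (m + 1) := ⟨(i : ℕ) - 1, by omega⟩ with hp
  set q : Fin (m + 1) := ⟨(i : ℕ) + 1, by omega⟩ with hq
  have hep : edgeMult ends (f i) (f p) = 1 := by
    rw [edgeMult_symm, chain_edgeMult hC hconn (a := p) (b := i) (by show (i : ℕ) - 1 < i; omega),
      if_pos (by show (i : ℕ) = (i : ℕ) - 1 + 1; omega)]
  have heq : edgeMult ends (f i) (f q) = 1 := by
    rw [chain_edgeMult hC hconn (a := i) (b := q) (by simp [hq]), if_pos (by simp [hq])]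
  have hpi : f p ≠ f i := hC.1.ne (by simp [hp, Fin.ext_iff]; omega)
  have hqi : f q ≠ f i := hC.1.ne (by simp [hq, Fin.ext_iff])
  have hpq : f p ≠ f q := hC.1.ne (by simp [hp, hq, Fin.ext_iff] <;> omega)
  have hsum : ∑ u ∈ univ.erase (f i), β u * (edgeMult ends (f i) u : ℤ) = 2 * m := by
    have h1 := mfMatrix_diag hβ (f i)
    rw [hα, hβm] at h1
    linarith
  have hzero : ∀ u, u ≠ f i → u ≠ f p → u ≠ f q → edgeMult ends (f i) u = 0 := by
    intro u h1 h2 h3
    have hsub : ({u, f p, f q} : Finset V) ⊆ univ.erase (f i) := by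
      intro z hz
      simp only [mem_insert, mem_singleton] at hz
      rcases hz with rfl | rfl | rfl <;> simp [h1, hpi, hqi]
    have hle := sum_le_sum_of_subset_of_nonneg (f := fun z => β z * (edgeMult ends (f i) z : ℤ)) hsub
      (fun z _ _ => mul_nonneg (hβ z).1.le (Int.natCast_nonneg _))
    rw [sum_insert (by simp [h2, h3]), sum_pair hpq, hsum, hep, heq, hβm, hβm] at hle
    have := (hβ u).1
    by_contra hne
    have : (0 : ℤ) < edgeMult ends (f i) u := by exact_mod_cast Nat.pos_of_ne_zero hne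
    have := mul_pos (hβ u).1 this
    push_cast at hle
    linarith
  funext v
  simp only [Pi.add_apply, Pi.sub_apply]
  rcases eq_or_ne v (f i) with rfl | hvi
  · simp [hα, hpi.symm, hqi.symm]
  rw [mfMatrix, if_neg hvi, edgeMult_symm]
  rcases eq_or_ne v (f p) with rfl | hvp
  · simp [hep, hpi, hpq]
  rcases eq_or_ne v (f q) with rfl | hvq
  · simp [heq, hqi, hpq.symm]
  · simp [hzero v hvi hvp hvq, hvi, hvp, hvq]

lemma col_mem (v : V) : (fun u => mfMatrix ends β u v) ∈ LinearMap.range (Matrix.mulVecLin (mfMatrix ends β)) :=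
  ⟨Pi.single v 1, by
    funext u
    simp [Matrix.mulVec, dotProduct, Pi.single_apply]⟩

/-- The potential rising along the chain. -/
lemma chain_potential (hβ : IsMultFn ends β) (hC : IsChain ends f e) (hconn : ∀ i, IsConnecting ends (e i))
    (hβm : ∀ i, β (f i) = m) (hα : ∀ i, mfMatrix ends β (f i) (f i) = -2) :
    ∃ W : V → ℤ, (∀ j, W (f j) = ((j : ℕ) : ℤ)) ∧
      Matrix.mulVecLin (mfMatrix ends β) W = Pi.single (f 0) 1 - Pi.single (f (Fin.last m)) 1 := by
  classical
  have hm : 0 < m := by have := (hβ (f 0)).1; rw [hβm] at this; exact_mod_cast this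
  obtain ⟨S, hcl, hS⟩ := chain_sep hC hconn ⟨m - 1, by omega⟩
  set W : V → ℤ := fun v =>
    if h : ∃ y, f y = v then (((Classical.choose h : Fin (m + 1)) : ℕ) : ℤ) else (if v ∈ S then β v else 0)
  have hWf : ∀ j, W (f j) = ((j : ℕ) : ℤ) := fun j => by
    simp only [W, dif_pos (⟨j, rfl⟩ : ∃ y, f y = f j)]
    rw [hC.1 (Classical.choose_spec (⟨j, rfl⟩ : ∃ y, f y = f j))]
  have hWo : ∀ v, v ∉ Set.range f → W v = if v ∈ S then β v else 0 := fun v hv => dif_neg hv
  have hmem : ∀ j, f j ∈ S ↔ (j : ℕ) = m := fun j => by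
    rw [hS j]; simp only []; omega
  -- neighbours of interior vertices
  have hint : ∀ (j : Fin (m + 1)) (u : V), u ∉ Set.range f → 0 < (j : ℕ) → (j : ℕ) < m →
      edgeMult ends u (f j) = 0 := by
    intro j u hu h1 h2
    have := congrFun (chain_col hβ hC hconn hβm hα j h1 h2) u
    have hne : ∀ i, u ≠ f i := fun i hh => hu ⟨i, hh.symm⟩
    simp [mfMatrix, hne] at this
    exact this
  refine ⟨W, hWf, funext fun v => mul_left_cancel₀ (hβ v).1.ne' ?_⟩
  rw [mul_mulVec hβ]
  have hflw : ∀ a : E, flw ends β W a = ∑ i : Fin m, if a = e i then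
      (if (ends (e i)).2 = f i.succ then (m : ℤ) else -(m : ℤ)) else 0 := by
    intro a
    by_cases ha : ∃ i, e i = a
    · obtain ⟨i, rfl⟩ := ha
      rw [sum_eq_single i (fun j _ hj => if_neg fun hh => hj (hC.2.1 hh).symm) (by simp), if_pos rfl]
      rcases hC.2.2 i with h | h
      · rw [flw, h]
        simp only [hWf, hβm, if_true, Fin.val_succ, Fin.val_castSucc]
        push_cast; ring
      · rw [flw, h]
        simp only [hWf, hβm, if_neg (hC.1.ne (show i.castSucc ≠ i.succ from Fin.castSucc_lt_succ.ne)),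
          Fin.val_succ, Fin.val_castSucc]
        push_cast; ring
    · rw [sum_eq_zero fun i _ => if_neg fun hh => ha ⟨i, hh.symm⟩]
      have hne : a ≠ e ⟨m - 1, by omega⟩ := fun hh => ha ⟨_, hh.symm⟩
      have hside := hcl a hne
      have key : ∀ x y, (ends a = (x, y) ∨ ends a = (y, x)) → (x ∈ S ↔ y ∈ S) →
          x ∈ Set.range f → β x * W y - β y * W x = 0 := by
        rintro x y hxy hiff ⟨j, rfl⟩
        rw [hβm, hWf]
        by_cases hy : y ∈ Set.range f
        · obtain ⟨l, rfl⟩ := hy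
          rw [hβm, hWf]
          rcases lt_trichotomy (j : ℕ) (l : ℕ) with hjl | hjl | hjl
          · exfalso
            have h1 := chain_edgeMult hC hconn hjl
            split_ifs at h1 with h2
            · rw [edgeMult, card_eq_one] at h1
              obtain ⟨x0, hx0⟩ := h1
              have e1 : a = x0 := mem_singleton.1 (hx0 ▸ mem_filter.2 ⟨mem_univ _, hxy⟩)
              have hj : (j : ℕ) < m := by omega
              have h4 := hC.2.2 ⟨j, hj⟩
              rw [show (⟨j, hj⟩ : Fin m).castSucc = j from Fin.ext rfl,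
                show (⟨j, hj⟩ : Fin m).succ = l from Fin.ext (by simp; omega)] at h4
              have e2 : e ⟨j, hj⟩ = x0 := mem_singleton.1 (hx0 ▸ mem_filter.2 ⟨mem_univ _, h4⟩)
              exact ha ⟨_, e2.trans e1.symm⟩
            · rw [edgeMult, card_eq_zero, filter_eq_empty_iff] at h1
              exact h1 (mem_univ a) hxy
          · simp [hjl]
          · exfalso
            have h1 := chain_edgeMult hC hconn hjl
            split_ifs at h1 with h2
            · rw [edgeMult, card_eq_one] at h1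
              obtain ⟨x0, hx0⟩ := h1
              have e1 : a = x0 := mem_singleton.1 (hx0 ▸ mem_filter.2 ⟨mem_univ _, hxy.symm⟩)
              have hl : (l : ℕ) < m := by omega
              have h4 := hC.2.2 ⟨l, hl⟩
              rw [show (⟨l, hl⟩ : Fin m).castSucc = l from Fin.ext rfl,
                show (⟨l, hl⟩ : Fin m).succ = j from Fin.ext (by simp; omega)] at h4
              have e2 : e ⟨l, hl⟩ = x0 := mem_singleton.1 (hx0 ▸ mem_filter.2 ⟨mem_univ _, h4⟩)
              exact ha ⟨_, e2.trans e1.symm⟩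
            · rw [edgeMult, card_eq_zero, filter_eq_empty_iff] at h1
              exact h1 (mem_univ a) hxy.symm
        · rw [hWo y hy]
          rw [hmem] at hiff
          rcases Nat.eq_zero_or_pos (j : ℕ) with hj | hj
          · rw [if_neg (fun h => by have := hiff.2 h; omega), hj]; simp
          · rcases (show (j : ℕ) ≤ m by omega).lt_or_eq with hj2 | hj2
            · exfalso
              have h1 := hint j y hy hj hj2
              rw [edgeMult, card_eq_zero, filter_eq_empty_iff] at h1
              exact h1 (mem_univ a) hxy.symm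
            · rw [if_pos (hiff.1 hj2), hj2]; ring
      by_cases h1 : (ends a).1 ∈ Set.range f
      · exact key _ _ (Or.inl rfl) hside h1
      by_cases h2 : (ends a).2 ∈ Set.range f
      · have := key _ _ (Or.inr rfl) hside.symm h2
        rw [flw]; linarith
      · rw [flw, hWo _ h1, hWo _ h2]
        simp only [hside]
        split_ifs <;> ring
  have hfun : flw ends β W = fun a => ∑ i : Fin m,
      (Pi.single (e i) (if (ends (e i)).2 = f i.succ then (m : ℤ) else -(m : ℤ)) : E → ℤ) a := by
    funext a; rw [hflw]; simp [Pi.single_apply]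
  have hbd : bd ends (flw ends β W) v =
      ∑ i : Fin m, ((if f i.succ = v then (m : ℤ) else 0) - (if f i.castSucc = v then (m : ℤ) else 0)) := by
    rw [hfun]
    have : bd ends (fun a => ∑ i : Fin m,
        (Pi.single (e i) (if (ends (e i)).2 = f i.succ then (m : ℤ) else -(m : ℤ)) : E → ℤ) a) v =
        ∑ i : Fin m, bd ends (Pi.single (e i) (if (ends (e i)).2 = f i.succ then (m : ℤ) else -(m : ℤ))) v := by
      simp only [bd]
      rw [sum_comm (γ := Fin m)]
      refine sum_congr rfl fun a _ => ?_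
      rw [sum_sub_distrib]
      split_ifs <;> simp
    rw [this]
    refine sum_congr rfl fun i _ => ?_
    rw [bd_single]
    rcases hC.2.2 i with h | h <;> rw [h] <;> simp only []
    · simp
    · rw [if_neg (hC.1.ne (show i.castSucc ≠ i.succ from Fin.castSucc_lt_succ.ne))]
      split_ifs <;> ring
  rw [hbd]
  set g : ℕ → ℤ := fun n => if h : n < m + 1 then (if f ⟨n, h⟩ = v then (m : ℤ) else 0) else 0
  have hg : ∀ j : Fin (m + 1), g j = if f j = v then (m : ℤ) else 0 := fun j => dif_pos j.isLt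
  rw [sum_congr rfl fun (i : Fin m) _ => show ((if f i.succ = v then (m : ℤ) else 0) -
      (if f i.castSucc = v then (m : ℤ) else 0)) = g ((i : ℕ) + 1) - g (i : ℕ) by
    rw [← Fin.val_succ i, ← Fin.val_castSucc i, hg, hg],
    Fin.sum_univ_eq_sum_range (fun n => g (n + 1) - g n) m, sum_range_sub,
    show g 0 = g ((0 : Fin (m + 1)) : ℕ) from rfl, show g m = g ((Fin.last m : Fin (m + 1)) : ℕ) from rfl, hg, hg]
  simp only [Pi.sub_apply, Pi.single_apply]
  rcases eq_or_ne (f 0) v with h | h <;> rcases eq_or_ne (f (Fin.last m)) v with h' | h'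
  · subst h; simp [h', hβm]
  · subst h; simp [h', Ne.symm h', hβm]
  · subst h'; simp [h, Ne.symm h, hβm]
  · simp [h, h', Ne.symm h, Ne.symm h']

/-- Steps along the chain are congruent modulo the column span. -/
lemma chain_steps (hβ : IsMultFn ends β) (hC : IsChain ends f e) (hconn : ∀ i, IsConnecting ends (e i))
    (hβm : ∀ i, β (f i) = m) (hα : ∀ i, mfMatrix ends β (f i) (f i) = -2) (h1 : 1 < m + 1) :
    ∀ i : Fin (m + 1), ((Pi.single (f i) 1 : V → ℤ) - Pi.single (f 0) 1) -
      ((i : ℕ) : ℤ) • ((Pi.single (f ⟨1, h1⟩) 1 : V → ℤ) - Pi.single (f 0) 1) ∈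
        LinearMap.range (Matrix.mulVecLin (mfMatrix ends β)) := by
  set M := LinearMap.range (Matrix.mulVecLin (mfMatrix ends β))
  set d := (Pi.single (f ⟨1, h1⟩) 1 : V → ℤ) - Pi.single (f 0) 1
  suffices ∀ n, ∀ (hn : n < m + 1),
      (((Pi.single (f ⟨n, hn⟩) 1 : V → ℤ) - Pi.single (f 0) 1) - (n : ℤ) • d ∈ M) ∧
      (∀ hn' : n + 1 < m + 1, ((Pi.single (f ⟨n + 1, hn'⟩) 1 : V → ℤ) - Pi.single (f ⟨n, hn⟩) 1) - d ∈ M) from
    fun i => (this i i.isLt).1
  intro n
  induction n with
  | zero => intro hn; exact ⟨by simp, fun hn' => by simp [d]⟩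
  | succ n ih =>
    intro hn
    obtain ⟨ha, hb⟩ := ih (by omega)
    have hb := hb hn
    refine ⟨?_, fun hn' => ?_⟩
    · convert M.add_mem ha hb using 1
      funext v
      simp only [Pi.sub_apply, Pi.add_apply, Pi.smul_apply, smul_eq_mul]
      push_cast; ring
    · have hcol := col_mem (ends := ends) (β := β) (f ⟨n + 1, hn⟩)
      rw [chain_col hβ hC hconn hβm hα ⟨n + 1, hn⟩ (by simp) (by simp only []; omega)] at hcol
      convert M.add_mem hcol hb using 1
      funext v
      simp only [Pi.sub_apply, Pi.add_apply, Nat.add_sub_cancel]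
      ring

theorem contract_surjective (hβ : IsMultFn ends β) (hC : IsChain ends f e)
    (hconn : ∀ i, IsConnecting ends (e i)) (hβm : ∀ i, β (f i) = m)
    (hα : ∀ i, mfMatrix ends β (f i) (f i) = -2) :
    ∃ φ : CompGrp (DualGr.ctrEnds ends (univ.image e)) (ctrFn ends (univ.image e) β) →+ CompGrp ends β,
      Function.Surjective φ ∧
      ∀ (x : LinearMap.ker (betaHom (ctrFn ends (univ.image e) β))) (y : LinearMap.ker (betaHom β)),
        (y : V → ℤ) = liftAt ends (univ.image e) (f 0) (x : DualGr.CtrVert ends (univ.image e) → ℤ) →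
        φ (Submodule.Quotient.mk x) = Submodule.Quotient.mk y := by
  have hm : 0 < m := by have := (hβ (f 0)).1; rw [hβm] at this; exact_mod_cast this
  have h1 : 1 < m + 1 := by omega
  have hconst : ∀ i j, β (f i) = β (f j) := fun i j => by rw [hβm, hβm]
  set D := univ.image e
  set M := LinearMap.range (Matrix.mulVecLin (mfMatrix ends β))
  set d := (Pi.single (f ⟨1, h1⟩) 1 : V → ℤ) - Pi.single (f 0) 1
  have hsteps := chain_steps hβ hC hconn hβm hα h1
  have hmd : (m : ℤ) • d ∈ M := by
    obtain ⟨W, -, hW⟩ := chain_potential hβ hC hconn hβm hα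
    have h2 : (Pi.single (f 0) 1 : V → ℤ) - Pi.single (f (Fin.last m)) 1 ∈ M := ⟨W, hW⟩
    have := M.neg_mem (M.add_mem h2 (hsteps (Fin.last m)))
    convert this using 1
    funext v
    simp only [d, Fin.val_last, Pi.neg_apply, Pi.add_apply, Pi.sub_apply, Pi.smul_apply, smul_eq_mul]
    ring
  have hπ : ∀ i, DualGr.ctrMk ends D (f i) = DualGr.ctrMk ends D (f 0) := chain_ctrMk_eq hC
  let L : (DualGr.CtrVert ends D → ℤ) →ₗ[ℤ] (V → ℤ) :=
    { toFun := liftAt ends D (f 0)
      map_add' := fun a b => by funext v; simp only [liftAt, Pi.add_apply]; split_ifs <;> simp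
      map_smul' := fun a b => by funext v; simp only [liftAt, Pi.smul_apply, RingHom.id_apply]; split_ifs <;> simp }
  have hdiff : ∀ y : V → ℤ, y - L (DualGr.pushV ends D y) - (∑ i, y (f i) * ((i : ℕ) : ℤ)) • d ∈ M := by
    intro y
    show y - liftAt ends D (f 0) (DualGr.pushV ends D y) - _ ∈ M
    rw [sub_liftAt_push hC, sum_smul, ← sum_sub_distrib]
    exact sum_mem fun i _ => by
      rw [mul_smul, ← smul_sub]
      exact M.smul_mem _ (hsteps i)
  let Lk : LinearMap.ker (betaHom (ctrFn ends D β)) →ₗ[ℤ] LinearMap.ker (betaHom β) :=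
    LinearMap.codRestrict _ (L.comp (LinearMap.ker (betaHom (ctrFn ends D β))).subtype) fun x => by
      show betaHom β (liftAt ends D (f 0) x.1) = 0
      rw [betaHom_liftAt hC hconst]; exact x.2
  have hdesc : (LinearMap.range (Matrix.mulVecLin (mfMatrix (DualGr.ctrEnds ends D) (ctrFn ends D β)))).comap
      (LinearMap.ker (betaHom (ctrFn ends D β))).subtype ≤
      ((M.comap (LinearMap.ker (betaHom β)).subtype)).comap Lk := by
    rintro x ⟨z, hz⟩
    show L x.1 ∈ M
    set w := Matrix.mulVecLin (mfMatrix ends β) fun v => z (DualGr.ctrMk ends D v) with hw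
    have hx : x.1 = DualGr.pushV ends D w := by
      rw [hw, ← mulVec_ctr hβ (chain_const_edges hC hconst) z]
      exact hz.symm
    rw [hx]
    have hwf : ∀ i : Fin (m + 1), 0 < (i : ℕ) → (i : ℕ) < m → w (f i) = 0 := by
      intro i h0 hi
      show Matrix.mulVecLin (mfMatrix ends β) _ (f i) = 0
      rw [Matrix.mulVecLin_apply, Matrix.mulVec, dotProduct]
      have hrow : ∀ u, mfMatrix ends β (f i) u = mfMatrix ends β u (f i) := fun u => by
        rcases eq_or_ne u (f i) with rfl | hu
        · rfl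
        · rw [mfMatrix, mfMatrix, if_neg hu, if_neg hu.symm, edgeMult_symm]
      have hcol := chain_col hβ hC hconn hβm hα i h0 hi
      simp only [hrow, congrFun hcol, Pi.add_apply, Pi.sub_apply, add_mul, sub_mul, sum_add_distrib,
        sum_sub_distrib, Pi.single_apply, ite_mul, one_mul, zero_mul, sum_ite_eq', mem_univ, if_true,
        hπ]
      ring
    have hsum : (∑ i, w (f i) * ((i : ℕ) : ℤ)) = (m : ℤ) * w (f (Fin.last m)) := by
      rw [sum_eq_single (Fin.last m)]
      · simp [mul_comm]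
      · intro i _ hi
        rcases Nat.eq_zero_or_pos (i : ℕ) with h | h
        · simp [h]
        · rw [hwf i h (by have := i.isLt; rw [Ne, Fin.ext_iff, Fin.val_last] at hi; omega), zero_mul]
      · simp
    have := hdiff w
    rw [hsum, mul_comm, mul_smul] at this
    have hwM : w ∈ M := ⟨_, rfl⟩
    have := M.sub_mem hwM (M.add_mem this (M.smul_mem (w (f (Fin.last m))) hmd))
    convert this using 1
    abel
  refine ⟨(Submodule.mapQ _ _ Lk hdesc).toAddMonoidHom, ?_, fun x y hy => ?_⟩
  · intro q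
    obtain ⟨y, rfl⟩ := Submodule.Quotient.mk_surjective _ q
    -- a representative of `d` supported away from the rest of the chain
    set u : V → ℤ := d - fun v => mfMatrix ends β v (f 0)
    have hu : ∀ i : Fin (m + 1), i ≠ 0 → u (f i) = 0 := by
      intro i hi
      have hi' : 0 < (i : ℕ) := Nat.pos_of_ne_zero fun h => hi (Fin.ext h)
      simp only [u, d, Pi.sub_apply, mfMatrix, if_neg (hC.1.ne hi)]
      rw [edgeMult_symm, chain_edgeMult hC hconn (a := 0) (b := i) (by simpa using hi'),
        Pi.single_eq_of_ne (hC.1.ne hi), Pi.single_apply]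
      rcases eq_or_ne i ⟨1, h1⟩ with rfl | h2
      · simp
      · rw [if_neg (hC.1.ne h2), if_neg]
        · simp
        · intro hh; exact h2 (Fin.ext (by simpa using hh))
    have hu' : u = L (DualGr.pushV ends D u) := by
      show u = liftAt ends D (f 0) (DualGr.pushV ends D u)
      rw [← sub_eq_zero, sub_liftAt_push hC]
      refine sum_eq_zero fun i _ => ?_
      rcases eq_or_ne i 0 with rfl | hi
      · simp
      · simp [hu i hi]
    set c := ∑ i, y.1 (f i) * ((i : ℕ) : ℤ)
    set x0 := DualGr.pushV ends D y.1 + c • DualGr.pushV ends D u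
    have hkey : L x0 - y.1 ∈ M := by
      have h2 := hdiff y.1
      rw [map_add, map_smul, ← hu']
      have h3 : c • (fun v => mfMatrix ends β v (f 0)) ∈ M := M.smul_mem _ (col_mem (f 0))
      have := M.neg_mem (M.add_mem h2 h3)
      convert this using 1
      funext v
      simp only [u, c, Pi.sub_apply, Pi.add_apply, Pi.smul_apply, Pi.neg_apply, smul_eq_mul]
      ring
    have hx0 : betaHom (ctrFn ends D β) x0 = 0 := by
      rw [← betaHom_liftAt hC hconst]
      obtain ⟨Z, hZ⟩ := hkey
      have : liftAt ends D (f 0) x0 = Matrix.mulVecLin (mfMatrix ends β) Z + y.1 := by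
        rw [hZ]; exact (sub_add_cancel _ _).symm
      rw [this, map_add, betaHom_mulVec hβ, show betaHom β y.1 = 0 from y.2, add_zero]
    refine ⟨Submodule.Quotient.mk ⟨x0, hx0⟩, ?_⟩
    show Submodule.Quotient.mk (Lk ⟨x0, hx0⟩) = Submodule.Quotient.mk y
    rw [Submodule.Quotient.eq]
    exact hkey
  · show Submodule.Quotient.mk (Lk x) = Submodule.Quotient.mk y
    congr 1
    exact Subtype.ext hy.symm

theorem contract_injective (hβ : IsMultFn ends β) (hC : IsChain ends f e)
    (hconn : ∀ i, IsConnecting ends (e i)) (hβm : ∀ i, β (f i) = m)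
    (hα : ∀ i, mfMatrix ends β (f i) (f i) = -2)
    (x : DualGr.CtrVert ends (univ.image e) → ℤ)
    (hfx : liftAt ends (univ.image e) (f 0) x ∈ LinearMap.range (Matrix.mulVecLin (mfMatrix ends β))) :
    x ∈ LinearMap.range (Matrix.mulVecLin
      (mfMatrix (DualGr.ctrEnds ends (univ.image e)) (ctrFn ends (univ.image e) β))) := by
  classical
  have hm : 0 < m := by have := (hβ (f 0)).1; rw [hβm] at this; exact_mod_cast this
  have h1 : 1 < m + 1 := by omega
  have hconst : ∀ i j, β (f i) = β (f j) := fun i j => by rw [hβm, hβm]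
  obtain ⟨Z, hZ⟩ := hfx
  have hπ : ∀ i, DualGr.ctrMk ends (univ.image e) (f i) = DualGr.ctrMk ends (univ.image e) (f 0) :=
    chain_ctrMk_eq hC
  obtain ⟨W, hW, hαW⟩ := chain_potential hβ hC hconn hβm hα
  set c := Z (f ⟨1, h1⟩) - Z (f 0)
  have hrec : ∀ n, ∀ hn : n < m + 1, Z (f ⟨n, hn⟩) = Z (f 0) + n * c := by
    intro n
    induction n using Nat.strong_induction_on with
    | _ n ih =>
      intro hn
      rcases n with _ | _ | n
      · simp
      · simp [c]
      · have hz := congrFun hZ (f ⟨n + 1, by omega⟩)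
        rw [show liftAt ends (univ.image e) (f 0) x (f ⟨n + 1, by omega⟩) = 0 from
          if_pos ⟨chain_ctrMk_eq hC _, hC.1.ne (by simp [Fin.ext_iff])⟩] at hz
        have hcol := chain_col hβ hC hconn hβm hα ⟨n + 1, by omega⟩ (by simp) (by simp only []; omega)
        rw [Matrix.mulVecLin_apply, Matrix.mulVec, dotProduct] at hz
        have hrow : ∀ u, mfMatrix ends β (f ⟨n + 1, by omega⟩) u = mfMatrix ends β u (f ⟨n + 1, by omega⟩) :=
          fun u => by
            rcases eq_or_ne u (f ⟨n + 1, by omega⟩) with rfl | hu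
            · rfl
            · rw [mfMatrix, mfMatrix, if_neg hu, if_neg hu.symm, edgeMult_symm]
        simp only [hrow, congrFun hcol, Pi.add_apply, Pi.sub_apply, add_mul, sub_mul, sum_add_distrib,
          sum_sub_distrib, Pi.single_apply, ite_mul, one_mul, zero_mul, sum_ite_eq', mem_univ, if_true,
          Nat.add_sub_cancel] at hz
        have a := ih n (by omega) (by omega)
        have b := ih (n + 1) (by omega) (by omega)
        push_cast at b ⊢
        linarith
  set Z' := Z - c • W
  have hZ'f : ∀ i, Z' (f i) = Z (f 0) := fun i => by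
    simp only [Z', Pi.sub_apply, Pi.smul_apply, smul_eq_mul, hW, hrec i.1 i.isLt]
    ring
  refine ⟨fun q => Z' (Quotient.out (s := DualGr.ctrSetoid ends (univ.image e)) q), ?_⟩
  rw [mulVec_ctr hβ (chain_const_edges hC hconst)]
  have hZπ : (fun v => Z' (Quotient.out (s := DualGr.ctrSetoid ends (univ.image e)) (DualGr.ctrMk ends (univ.image e) v))) = Z' := by
    funext v
    rcases chain_class hC (show DualGr.ctrMk ends (univ.image e) (Quotient.out (s := DualGr.ctrSetoid ends (univ.image e))
        (DualGr.ctrMk ends (univ.image e) v)) = DualGr.ctrMk ends (univ.image e) v from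
      Quotient.out_eq (s := DualGr.ctrSetoid ends (univ.image e)) _) with h | ⟨⟨i, hi⟩, j, hj⟩
    · rw [h]
    · rw [← hi, ← hj, hZ'f, hZ'f]
  rw [hZπ]
  simp only [Z', map_sub, map_smul, hZ, hαW, push_liftAt hC, sub_eq_self, smul_eq_zero]
  right
  funext q
  show ∑ v ∈ univ.filter _, (Pi.single (f 0) 1 : V → ℤ) v - ∑ v ∈ univ.filter _, _ = 0
  simp [Pi.single_apply, sum_ite_eq', mem_filter, chain_ctrMk_eq hC]

end chainM

end Groth.Agent.H25Graph
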