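import Groth.Agent.H25Graph.Chain
import Mathlib.LinearAlgebra.Matrix.ToLinearEquiv
import Mathlib.LinearAlgebra.Matrix.NonsingularInverse
import Mathlib.LinearAlgebra.Matrix.Block
import Mathlib.LinearAlgebra.Dimension.Constructions
import Mathlib.LinearAlgebra.FreeModule.Finite.CardQuotient

/-! The matrix-tree theorem for finite multigraphs. -/

set_option autoImplicit false
set_option linter.unusedSectionVars false

universe u

namespace Groth.Agent.H25Graph

open Finset LabGraph Matrix

variable {V E : Type u} [Fintype V] [Fintype E] [DecidableEq V] [DecidableEq E]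

/-- Signed incidence. -/
def inc (R : Type*) [CommRing R] (ends : E → V × V) (e : E) (x : V) : R :=
  (if (ends e).2 = x then 1 else 0) - (if (ends e).1 = x then 1 else 0)

variable {ends : E → V × V}

lemma sum_inc_mul (R : Type*) [CommRing R] (ends : E → V × V) (φ : V → R) (e : E) :
    ∑ x, inc R ends e x * φ x = φ (ends e).2 - φ (ends e).1 := by
  simp [inc, sub_mul, sum_sub_distrib, sum_ite_eq]

lemma sum_mul_inc (R : Type*) [CommRing R] (ends : E → V × V) (γ : E → R) (x : V) :
    ∑ e, γ e * inc R ends e x = bd ends γ x := by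
  simp only [inc, bd, mul_sub, mul_ite, mul_one, mul_zero]

variable (v : V)

local notation "W" => {x : V // x ≠ v}

/-- Extend by zero at the base vertex. -/
def ext0 {R : Type*} [Zero R] (φ : {x : V // x ≠ v} → R) (x : V) : R := if h : x = v then 0 else φ ⟨x, h⟩

lemma sum_ext0 {R : Type*} [CommRing R] (c : V → R) (φ : {x : V // x ≠ v} → R) :
    ∑ x, c x * ext0 v φ x = ∑ x : W, c x.1 * φ x := by
  rw [← sum_subset (subset_univ (univ.filter fun x => x ≠ v)),
    sum_subtype (univ.filter fun x => x ≠ v) (p := fun x => x ≠ v) (by simp)]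
  · exact sum_congr rfl fun x _ => by rw [ext0, dif_neg x.2]
  · intro x _ hx
    simp only [mem_filter, mem_univ, true_and, not_not] at hx
    rw [ext0, dif_pos hx, mul_zero]

/-- The coboundary of functions vanishing at `v`, restricted to `T`. -/
def cobd (R : Type*) [CommRing R] (ends : E → V × V) (T : Finset E) : ({x : V // x ≠ v} → R) →ₗ[R] (T → R) where
  toFun φ e := ext0 v φ (ends e.1).2 - ext0 v φ (ends e.1).1
  map_add' φ ψ := by funext e; simp only [ext0, Pi.add_apply]; split_ifs <;> ring
  map_smul' c φ := by funext e; simp only [ext0, Pi.smul_apply, smul_eq_mul, RingHom.id_apply]; split_ifs <;> ring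

lemma cobd_surjective {R : Type*} [CommRing R] {T : Finset E} (hF : ForestOn ends T) :
    Function.Surjective (cobd v R ends T) := by
  intro x
  obtain ⟨φ, hφ⟩ := hF.exists_potential (R := R) (fun e => if h : e ∈ T then x ⟨e, h⟩ else 0)
  refine ⟨fun u => φ u.1 - φ v, funext fun e => ?_⟩
  have h := hφ e.1 e.2
  rw [dif_pos e.2] at h
  have hx : ∀ y, ext0 v (fun u : W => φ u.1 - φ v) y = φ y - φ v := fun y => by
    unfold ext0; split_ifs with hy <;> simp [hy]
  show ext0 v _ (ends e.1).2 - ext0 v _ (ends e.1).1 = x e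
  rw [hx, hx, ← h]; ring

lemma cobd_injective {R : Type*} [CommRing R] {T : Finset E} (hc : ConnOn ends T) :
    Function.Injective (cobd v R ends T) := by
  rw [injective_iff_map_eq_zero]
  intro φ hφ
  funext u
  have := hc.eq_of_edges (φ := ext0 v φ) (fun e he => by
    have := congrFun hφ ⟨e, he⟩
    exact (sub_eq_zero.1 this).symm) u.1 v
  simpa [ext0, u.2] using this

lemma card_forest {T : Finset E} (hF : ForestOn ends T) : T.card ≤ Fintype.card W := by
  have := LinearMap.finrank_le_finrank_of_surjective (f := cobd v ℚ ends T) (cobd_surjective v hF)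
  simpa [Module.finrank_pi] using this

lemma card_tree {T : Finset E} (hc : ConnOn ends T) (hF : ForestOn ends T) : T.card = Fintype.card W := by
  refine le_antisymm (card_forest v hF) ?_
  have := LinearMap.finrank_le_finrank_of_injective (f := cobd v ℚ ends T) (cobd_injective v hc)
  simpa [Module.finrank_pi] using this

lemma conn_of_card {T : Finset E} (hF : ForestOn ends T) (hcard : T.card = Fintype.card W) :
    ConnOn ends T := by
  have hinj : Function.Injective (cobd v ℚ ends T) :=
    (LinearMap.injective_iff_surjective_of_finrank_eq_finrank (by simp [Module.finrank_pi, hcard])).2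
      (cobd_surjective v hF)
  classical
  suffices ∀ x, Reach ends T x v from fun x y => (this x).trans' (this y).symm
  intro x
  by_contra hx
  set φ : W → ℚ := fun u => if u.1 ∈ comp ends T x then 1 else 0
  have hext : ∀ y, ext0 v φ y = if y ∈ comp ends T x then 1 else 0 := fun y => by
    unfold ext0
    split_ifs with h1 h2 <;> simp_all [φ, mem_comp]
  have h0 : cobd v ℚ ends T φ = 0 := funext fun e => by
    show ext0 v φ (ends e.1).2 - ext0 v φ (ends e.1).1 = 0
    rw [hext, hext, if_congr (comp_closed ends T x e.2) rfl rfl, sub_self]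
  have hxv : x ≠ v := fun h => hx (h ▸ Reach.rfl')
  have := congrFun (hinj (h0.trans (map_zero _).symm)) ⟨x, hxv⟩
  simp [φ, self_mem_comp] at this

lemma det_incidence_tree {T : Finset E} (hc : ConnOn ends T) (hF : ForestOn ends T) (f : W ≃ T) :
    IsUnit (Matrix.of fun i j : W => inc ℤ ends (f i).1 j.1).det := by
  have hs : Function.Surjective (Matrix.of fun i j : W => inc ℤ ends (f i).1 j.1).mulVec := by
    intro x
    obtain ⟨φ, hφ⟩ := cobd_surjective (R := ℤ) v hF (fun e => x (f.symm e))
    refine ⟨φ, funext fun i => ?_⟩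
    have h := congrFun hφ (f i)
    rw [Equiv.symm_apply_apply] at h
    rw [← h]
    show ∑ j : W, inc ℤ ends (f i).1 j.1 * φ j = _
    rw [← sum_ext0 v (inc ℤ ends (f i).1) φ, sum_inc_mul]
    rfl
  exact (Matrix.isUnit_iff_isUnit_det _).1 (Matrix.mulVec_surjective_iff_isUnit.1 hs)

lemma det_incidence_cycle {f : W → E} (hf : Function.Injective f)
    (h : ¬ ForestOn ends (univ.image f)) : (Matrix.of fun i j : W => inc ℤ ends (f i) j.1).det = 0 := by
  simp only [ForestOn, not_forall, not_not] at h
  obtain ⟨C, hC, ⟨e, he⟩, hev, -⟩ := h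
  obtain ⟨γ, h0, h1, h2⟩ := EvenSet.exists_cycle (ends := ends) hev he
  rw [← Matrix.exists_vecMul_eq_zero_iff]
  obtain ⟨i₀, -, hi₀⟩ := mem_image.1 (hC he)
  refine ⟨fun i => γ (f i), fun hh => ?_, funext fun j => ?_⟩
  · have := congrFun hh i₀
    simp only [hi₀, h1, Pi.zero_apply] at this
    exact one_ne_zero this
  · show ∑ i : W, γ (f i) * inc ℤ ends (f i) j.1 = 0
    rw [← sum_image (g := f) (f := fun e => γ e * inc ℤ ends e j.1) hf.injOn,
      sum_subset (subset_univ _) (fun x _ hx => by rw [h0 x fun hxC => hx (hC hxC), zero_mul]),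
      sum_mul_inc, h2]

open Classical in
/-- Weighted matrix-tree theorem. -/
theorem det_laplacian (ends : E → V × V) (w : E → ℤ) :
    (Matrix.of fun i j : W => ∑ e, w e * inc ℤ ends e i.1 * inc ℤ ends e j.1).det =
      ∑ T ∈ (univ : Finset E).powerset.filter (fun T => IsSpanningTree ends T), ∏ e ∈ T, w e := by
  have : Nonempty V := ⟨v⟩
  set M : (W → E) → Matrix W W ℤ := fun f => Matrix.of fun i j => inc ℤ ends (f i) j.1
  have step : (Matrix.of fun i j : W => ∑ e, w e * inc ℤ ends e i.1 * inc ℤ ends e j.1).det =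
      ∑ f : W → E, (∏ i, (w (f i) * inc ℤ ends (f i) i.1)) * (M f).det := by
    rw [← det_transpose, det_apply']
    simp only [transpose_apply, of_apply]
    have key : ∀ σ : Equiv.Perm W, (∏ i, ∑ e, w e * inc ℤ ends e i.1 * inc ℤ ends e (σ i).1) =
        ∑ f : W → E, (∏ i, (w (f i) * inc ℤ ends (f i) i.1)) * ∏ i, inc ℤ ends (f i) (σ i).1 := fun σ => by
      rw [Fintype.prod_sum]
      exact sum_congr rfl fun f _ => by rw [← prod_mul_distrib]
    simp only [key, mul_sum]
    rw [sum_comm]
    refine sum_congr rfl fun f _ => ?_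
    rw [← det_transpose (M f), det_apply', mul_sum]
    refine sum_congr rfl fun σ _ => ?_
    simp only [M, transpose_apply, of_apply]
    ring
  rw [step, sum_filter, ← sum_fiberwise_of_maps_to (s := univ) (t := (univ : Finset E).powerset)
    (g := fun f : W → E => univ.image f) (fun f _ => mem_powerset.2 (subset_univ _))]
  refine sum_congr rfl fun T _ => ?_
  by_cases hT : IsSpanningTree ends T
  · rw [if_pos hT]
    obtain ⟨-, hc, hF⟩ := (isTree_sub_iff ends T).1 hT
    have hcard := card_tree v hc hF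
    obtain f₀ : W ≃ T := Fintype.equivOfCardEq (by simp [hcard])
    have hunit := det_incidence_tree v hc hF f₀
    have hbij : ∑ f ∈ univ.filter (fun f : W → E => univ.image f = T),
        (∏ i, (w (f i) * inc ℤ ends (f i) i.1)) * (M f).det =
        ∑ σ : Equiv.Perm W, (∏ i, (w (f₀ (σ i)).1 * inc ℤ ends (f₀ (σ i)).1 i.1)) *
          (M fun i => (f₀ (σ i)).1).det := by
      symm
      refine sum_bij (fun σ _ i => (f₀ (σ i)).1) (fun σ _ => mem_filter.2 ⟨mem_univ _, ?_⟩)
        (fun σ _ σ' _ h => Equiv.ext fun i => f₀.injective (Subtype.ext (congrFun h i))) (fun f hf => ?_)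
        (fun σ _ => rfl)
      · ext x
        simp only [mem_image, mem_univ, true_and]
        exact ⟨fun ⟨i, hi⟩ => hi ▸ (f₀ (σ i)).2,
          fun hx => ⟨σ.symm (f₀.symm ⟨x, hx⟩), by simp⟩⟩
      · have hf' := (mem_filter.1 hf).2
        have hmem : ∀ i, f i ∈ T := fun i => hf' ▸ mem_image_of_mem f (mem_univ i)
        have hinj : Function.Injective f := by
          rw [← Set.injOn_univ, ← coe_univ, ← card_image_iff, hf', hcard, card_univ]
        refine ⟨Equiv.ofBijective (fun i => f₀.symm ⟨f i, hmem i⟩)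
          (Finite.injective_iff_bijective.1 fun i j h => hinj (congrArg Subtype.val (f₀.symm.injective h))),
          mem_univ _, ?_⟩
        funext i
        simp
    rw [hbij]
    set A : Matrix W W ℤ := Matrix.of fun i j : W => inc ℤ ends (f₀ i).1 j.1
    have hM : ∀ σ : Equiv.Perm W, (M fun i => (f₀ (σ i)).1).det = (Equiv.Perm.sign σ : ℤ) * A.det :=
      fun σ => det_permute σ A
    have hprod : ∀ σ : Equiv.Perm W, (∏ i, (w (f₀ (σ i)).1 * inc ℤ ends (f₀ (σ i)).1 i.1)) =
        (∏ e ∈ T, w e) * ∏ i, A (σ i) i := fun σ => by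
      rw [prod_mul_distrib]
      congr 1
      rw [← prod_coe_sort T, ← Equiv.prod_comp (σ.trans f₀) (fun e : T => w e.1)]
      rfl
    have hA : ∑ σ : Equiv.Perm W, (Equiv.Perm.sign σ : ℤ) * ∏ i, A (σ i) i = A.det := (det_apply' A).symm
    simp only [hM, hprod]
    have : ∑ σ : Equiv.Perm W, (∏ e ∈ T, w e) * (∏ i, A (σ i) i) * ((Equiv.Perm.sign σ : ℤ) * A.det) =
        (∏ e ∈ T, w e) * A.det * ∑ σ : Equiv.Perm W, (Equiv.Perm.sign σ : ℤ) * ∏ i, A (σ i) i := by
      rw [mul_sum]; exact sum_congr rfl fun σ _ => by ring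
    rw [this, hA]
    rcases Int.isUnit_iff.1 hunit with h | h <;> rw [h] <;> ring
  · rw [if_neg hT]
    refine sum_eq_zero fun f hf => ?_
    have hf' := (mem_filter.1 hf).2
    by_cases hinj : Function.Injective f
    · by_cases hF : ForestOn ends (univ.image f)
      · refine absurd ((isTree_sub_iff ends T).2 ⟨⟨v⟩, ?_, hf' ▸ hF⟩) hT
        rw [← hf']
        exact conn_of_card v hF (by rw [card_image_of_injective _ hinj, card_univ])
      · rw [det_incidence_cycle v hinj hF, mul_zero]
    · simp only [Function.Injective, not_forall] at hinj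
      obtain ⟨a, b, hab, hne⟩ := hinj
      rw [det_zero_of_row_eq (M := M f) hne (funext fun j => by
        show inc ℤ ends (f a) j.1 = inc ℤ ends (f b) j.1
        rw [hab]), mul_zero]

lemma tree_no_loop {T : Finset E} (hF : ForestOn ends T) {e : E} (he : e ∈ T) : (ends e).1 ≠ (ends e).2 :=
  fun h => hF.bridge he (h ▸ Reach.rfl')

lemma tree_endCount {T : Finset E} (hF : ForestOn ends T) (x : V) :
    endCount ends T x = nbrCount ends T x := by
  classical
  have h1 : endCount ends T x = (T.filter fun e => (ends e).1 = x ∨ (ends e).2 = x).card := by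
    rw [endCount, card_filter]
    refine sum_congr rfl fun e he => ?_
    have := tree_no_loop hF he
    by_cases ha : (ends e).1 = x <;> by_cases hb : (ends e).2 = x <;> simp [ha, hb]
    exact this (ha.trans hb.symm)
  rw [h1, nbrCount]
  refine card_bij (fun e _ => if (ends e).1 = x then (ends e).2 else (ends e).1) (fun e he => ?_)
    (fun e he e' he' h => ?_) (fun y hy => ?_)
  · obtain ⟨he, hx⟩ := mem_filter.1 he
    have := tree_no_loop hF he
    refine mem_filter.2 ⟨mem_univ _, ?_, e, he, ?_⟩
    · split_ifs with ha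
      · exact fun h => this (ha.trans h.symm)
      · exact ha
    · split_ifs with ha
      · exact Or.inl (Prod.ext ha rfl)
      · exact Or.inr (Prod.ext rfl (hx.resolve_left ha))
  · obtain ⟨he, hx⟩ := mem_filter.1 he
    obtain ⟨he', hx'⟩ := mem_filter.1 he'
    by_contra hne
    refine hF.bridge he (Relation.ReflTransGen.single ⟨e', mem_erase.2 ⟨Ne.symm hne, he'⟩, ?_⟩)
    rcases hp : ends e with ⟨a, b⟩
    rcases hp' : ends e' with ⟨c, d⟩
    simp only [hp, hp'] at h hx hx' ⊢
    by_cases ha : a = x <;> by_cases hc : c = x <;> simp only [ha, hc, if_true, if_false] at h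
    · exact Or.inl (Prod.ext (hc.trans ha.symm) h.symm)
    · exact Or.inr (Prod.ext h.symm ((hx'.resolve_left hc).trans ha.symm))
    · exact Or.inr (Prod.ext (hc.trans (hx.resolve_left ha).symm) h.symm)
    · exact Or.inl (Prod.ext h.symm ((hx'.resolve_left hc).trans (hx.resolve_left ha).symm))
  · obtain ⟨-, hyx, e, he, h⟩ := mem_filter.1 hy
    refine ⟨e, mem_filter.2 ⟨he, ?_⟩, ?_⟩
    · rcases h with h | h <;> simp [h]
    · rcases h with h | h <;> simp [h, hyx]

lemma prod_tree {T : Finset E} (hF : ForestOn ends T) (β : V → ℤ) :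
    ∏ e ∈ T, β (ends e).1 * β (ends e).2 = ∏ x, β x ^ nbrCount ends T x := by
  simp only [← tree_endCount hF, endCount, pow_add, ← prod_pow_eq_pow_sum]
  rw [prod_comm]
  refine prod_congr rfl fun e _ => ?_
  simp only [pow_add, pow_ite, pow_one, pow_zero, prod_mul_distrib, prod_ite_eq, mem_univ, if_true]

section compgrp
variable {β : V → ℤ}

lemma laplacian_eq (hβ : IsMultFn ends β) (i j : V) :
    ∑ e, β (ends e).1 * β (ends e).2 * inc ℤ ends e i * inc ℤ ends e j =
      -(β i * mfMatrix ends β i j * β j) := by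
  rcases eq_or_ne i j with rfl | hij
  · rw [mul_assoc (β i), mfMatrix_diag hβ, mul_neg, neg_neg]
    simp only [mul_comm (β _) (edgeMult ends i _ : ℤ)]
    rw [sum_edgeMult, mul_sum]
    refine sum_congr rfl fun e _ => ?_
    rcases hp : ends e with ⟨a, b⟩
    simp only [inc, hp]
    by_cases ha : a = i <;> by_cases hb : b = i <;> simp [ha, hb] <;> ring
  · rw [mfMatrix, if_neg hij, edgeMult, natCast_card_filter, mul_sum, sum_mul, ← sum_neg_distrib]
    refine sum_congr rfl fun e _ => ?_
    rcases hp : ends e with ⟨a, b⟩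
    simp only [inc, hp, Prod.mk.injEq]
    by_cases ha : a = i <;> by_cases hb : b = i <;> by_cases ha' : a = j <;> by_cases hb' : b = j <;>
      simp [ha, hb, ha', hb', hij, hij.symm] <;> first | ring | simp_all

/-- The minor of the matrix at `v`. -/
noncomputable def minor (ends : E → V × V) (β : V → ℤ) : Matrix W W ℤ :=
  Matrix.of fun i j => mfMatrix ends β i.1 j.1

open Classical in
lemma minor_det (hβ : IsMultFn ends β) :
    (minor v ends β).det.natAbs * (∏ i : W, β i.1) ^ 2 =
      ∑ T ∈ (univ : Finset E).powerset.filter (fun T => IsSpanningTree ends T),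
        ∏ x, β x ^ nbrCount ends T x := by
  have h := det_laplacian v ends (fun e => β (ends e).1 * β (ends e).2)
  have hL : (Matrix.of fun i j : W => ∑ e, β (ends e).1 * β (ends e).2 * inc ℤ ends e i.1 * inc ℤ ends e j.1) =
      -(Matrix.diagonal (fun i : W => β i.1) * minor v ends β * Matrix.diagonal (fun i : W => β i.1)) := by
    ext i j
    simp only [Matrix.neg_apply, Matrix.mul_diagonal, Matrix.diagonal_mul, minor, of_apply, laplacian_eq hβ]
  rw [hL, det_neg, det_mul, det_mul, det_diagonal] at h
  have hnn : 0 ≤ ∑ T ∈ (univ : Finset E).powerset.filter (fun T => IsSpanningTree ends T),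
      ∏ x, β x ^ nbrCount ends T x :=
    sum_nonneg fun T _ => prod_nonneg fun x _ => pow_nonneg (hβ x).1.le _
  have hpt : ∀ T ∈ (univ : Finset E).powerset.filter (fun T => IsSpanningTree ends T),
      ∏ e ∈ T, β (ends e).1 * β (ends e).2 = ∏ x, β x ^ nbrCount ends T x :=
    fun T hT => prod_tree ((isTree_sub_iff ends T).1 (mem_filter.1 hT).2).2.2 β
  rw [sum_congr rfl hpt] at h
  rw [← abs_of_nonneg hnn, ← h, Int.natCast_natAbs, abs_mul, abs_pow, abs_neg, abs_one, one_pow, one_mul,
    abs_mul, abs_mul, sq, abs_of_nonneg (prod_nonneg fun (i : W) _ => (hβ i.1).1.le : 0 ≤ ∏ i : W, β i.1)]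
  ring

lemma exists_tree_pos (hG : LabGraph.Connected ends) (hβ : IsMultFn ends β) :
    (minor v ends β).det ≠ 0 := by
  classical
  intro h
  have h' := minor_det v hβ
  rw [h, Int.natAbs_zero, Nat.cast_zero, zero_mul] at h'
  obtain ⟨hV, hc⟩ := (connected_iff ends).1 hG
  obtain ⟨T, -, hT1, hT2⟩ := hc.exists_tree
  have := single_le_sum (f := fun T => ∏ x, β x ^ nbrCount ends T x)
    (fun T _ => prod_nonneg fun x _ => pow_nonneg (hβ x).1.le _)
    (mem_filter.2 ⟨mem_powerset.2 (subset_univ T),
      (show IsSpanningTree ends T from (isTree_sub_iff ends T).2 ⟨hV, hT1, hT2⟩)⟩ :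
        T ∈ (univ : Finset E).powerset.filter (fun T => IsSpanningTree ends T))
  rw [← h'] at this
  exact absurd (prod_pos fun x _ => pow_pos (hβ x).1 _) (not_lt.2 this)

theorem card_compGrp_mul (hβ : IsMultFn ends β) (hG : LabGraph.Connected ends) :
    (β v).natAbs ^ 2 * Nat.card (CompGrp ends β) =
      (univ.gcd β).natAbs ^ 2 * (minor v ends β).det.natAbs := by
  classical
  set α := Matrix.mulVecLin (mfMatrix ends β)
  set N : Matrix V V ℤ := (mfMatrix ends β).updateCol v (Pi.single v 1)
  have hdetN : N.det = (minor v ends β).det := by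
    rw [twoBlockTriangular_det N (fun x => x = v) (fun i hi j hj => by
      simp [N, hj, hi])]
    have : Subsingleton {x : V // x = v} := ⟨fun a b => Subtype.ext (a.2.trans b.2.symm)⟩
    refine Eq.trans (congrArg₂ (· * ·) (?_ : _ = (1 : ℤ)) rfl) ((one_mul _).trans ?_)
    · convert! (det_eq_elem_of_subsingleton (toSquareBlockProp N fun x => x = v)
        (⟨v, rfl⟩ : {x : V // x = v})).trans (show _ = (1 : ℤ) from by simp [toSquareBlockProp, N]) using 2
    congr 1
    ext i j
    simp only [toSquareBlockProp, minor, of_apply, toBlock_apply, N]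
    rw [updateCol_ne j.2]
  have hN0 : N.det ≠ 0 := hdetN ▸ exists_tree_pos v hG hβ
  have hinjN : Function.Injective N.mulVecLin := by
    rw [injective_iff_map_eq_zero]
    intro z hz
    by_contra h0
    exact hN0 (Matrix.exists_mulVec_eq_zero_iff.1 ⟨z, h0, hz⟩)
  have hNz : ∀ z, N.mulVecLin z = α (Function.update z v 0) + z v • (Pi.single v 1 : V → ℤ) := by
    intro z
    funext i
    simp only [α, Matrix.mulVecLin_apply, Matrix.mulVec, dotProduct, Pi.add_apply, Pi.smul_apply, smul_eq_mul, N]
    rw [← add_sum_erase _ _ (mem_univ v), ← add_sum_erase _ (fun x => mfMatrix ends β i x * _) (mem_univ v),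
      Function.update_self, mul_zero, zero_add, updateCol_self, mul_comm (z v),
      sum_congr rfl fun x hx => by rw [updateCol_ne (mem_erase.1 hx).1,
        ← Function.update_of_ne (mem_erase.1 hx).1 (0 : ℤ) z], add_comm]
  set φ := betaHom β
  have hφα : ∀ z, φ (α z) = 0 := betaHom_mulVec hβ
  have hαβ : α β = 0 := by
    funext x
    refine mul_left_cancel₀ (hβ x).1.ne' ?_
    rw [mul_mulVec hβ, Pi.zero_apply, mul_zero, neg_eq_zero]
    have : flw ends β β = 0 := funext fun e => by rw [flw, mul_comm]; simp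
    simp [this, bd]
  have hvpos := (hβ v).1
  -- kernel of α
  have hker : ∀ z, α z = 0 → ∀ x, β v * z x = z v * β x := by
    intro z hz x
    set z' := β v • z - z v • β
    have h0 : z' v = 0 := by simp [z']; ring
    have hz' : N.mulVecLin z' = 0 := by
      rw [hNz, h0, zero_smul, add_zero, show Function.update z' v 0 = z' from by rw [← h0]; simp]
      simp only [z']
      rw [map_sub, map_smul, map_smul, hz, hαβ]
      simp
    have := congrFun (hinjN (hz'.trans (map_zero _).symm)) x
    simp only [z', Pi.sub_apply, Pi.smul_apply, smul_eq_mul, Pi.zero_apply, sub_eq_zero] at this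
    exact this
  -- gcd
  set g := univ.gcd β
  have hg0 : g ≠ 0 := fun h => hvpos.ne' (Finset.gcd_eq_zero_iff.1 h v (mem_univ v))
  have hgn : 0 < g := lt_of_le_of_ne ((Int.nonneg_iff_normalize_eq_self _).1 Finset.normalize_gcd) hg0.symm
  have hgd : ∀ x, g ∣ β x := fun x => Finset.gcd_dvd (mem_univ x)
  obtain ⟨c, hc⟩ := Finset.gcd_eq_sum_mul (univ : Finset V) β
  choose b hb using hgd
  have hq : (β v).natAbs = g.natAbs * (b v).natAbs := by rw [← Int.natAbs_mul, ← hb]
  -- subgroups
  let K : AddSubgroup (V → ℤ) := φ.ker.toAddSubgroup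
  let A : AddSubgroup (V → ℤ) := (LinearMap.range α).toAddSubgroup
  let evv : (V → ℤ) →+ ℤ := Pi.evalAddMonoidHom (fun _ => ℤ) v
  let I : AddSubgroup (V → ℤ) := evv.ker.map α.toAddMonoidHom
  let P : AddSubgroup (V → ℤ) := (LinearMap.range N.mulVecLin).toAddSubgroup
  let Q : AddSubgroup (V → ℤ) := P ⊔ K
  have hAK : A ≤ K := by rintro _ ⟨z, rfl⟩; exact hφα z
  have hIA : I ≤ A := by rintro _ ⟨z, -, rfl⟩; exact ⟨z, rfl⟩
  have hI : ∀ z : V → ℤ, z v = 0 → α z ∈ I := fun z hz => ⟨z, hz, rfl⟩
  have hPmem : ∀ x, x ∈ P ↔ ∃ i ∈ I, ∃ t : ℤ, x = i + t • (Pi.single v 1 : V → ℤ) := by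
    intro x
    constructor
    · rintro ⟨z, rfl⟩
      exact ⟨_, hI (Function.update z v 0) (by simp), z v, hNz z⟩
    · rintro ⟨_, ⟨z, hz, rfl⟩, t, rfl⟩
      refine ⟨Function.update z v t, ?_⟩
      rw [hNz, Function.update_idem, Function.update_self,
        show Function.update z v 0 = z from by rw [show (0 : ℤ) = z v from hz.symm]; simp]
      rfl
  have hφδ : φ (Pi.single v 1) = β v := by simp [φ, betaHom_apply', Pi.single_apply]
  -- [ℤ^V : P] = det
  have hP : P.index = (minor v ends β).det.natAbs := by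
    rw [← hdetN, ← LinearMap.det_toLin' N]
    have := Submodule.natAbs_det_equiv (LinearMap.range N.mulVecLin)
      (LinearEquiv.ofInjective N.mulVecLin hinjN)
    exact this.symm
  -- [ℤ^V : Q]
  have hQ : Q.index = (b v).natAbs := by
    have hn : (β v).natAbs ≠ 0 := Int.natAbs_ne_zero.2 hvpos.ne'
    let ψ : (V → ℤ) →+ ZMod (β v).natAbs := (Int.castAddHom _).comp φ.toAddMonoidHom
    have hψ : ∀ x, ψ x = ((φ x : ℤ) : ZMod (β v).natAbs) := fun x => rfl
    have hkerψ : ψ.ker = Q := by
      ext x
      rw [AddMonoidHom.mem_ker, hψ, ZMod.intCast_zmod_eq_zero_iff_dvd, Int.natAbs_dvd]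
      constructor
      · rintro ⟨t, ht⟩
        have h1 : x - t • (Pi.single v 1 : V → ℤ) ∈ K := by
          show φ _ = 0
          rw [map_sub, map_smul, hφδ, ht, smul_eq_mul]; ring
        have h2 : t • (Pi.single v 1 : V → ℤ) ∈ P :=
          (hPmem _).2 ⟨0, zero_mem _, t, (zero_add _).symm⟩
        have := AddSubgroup.add_mem_sup h2 h1
        rwa [add_sub_cancel] at this
      · intro hx
        obtain ⟨p, hp, k, hk, rfl⟩ := AddSubgroup.mem_sup.1 hx
        obtain ⟨i, hi, t, rfl⟩ := (hPmem p).1 hp
        refine ⟨t, ?_⟩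
        have h1 : φ i = 0 := hAK (hIA hi)
        have h2 : φ k = 0 := hk
        rw [map_add, map_add, map_smul, h1, h2, hφδ, smul_eq_mul]; ring
    have hrange : ψ.range = AddSubgroup.zmultiples ((g.natAbs : ℕ) : ZMod (β v).natAbs) := by
      rw [← Int.cast_natCast, Int.natAbs_of_nonneg hgn.le]
      ext y
      constructor
      · rintro ⟨x, rfl⟩
        refine ⟨∑ u, x u * b u, ?_⟩
        show (∑ u, x u * b u) • ((g : ℤ) : ZMod _) = ψ x
        rw [hψ, zsmul_eq_mul, ← Int.cast_mul, betaHom_apply', sum_mul]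
        congr 1
        exact sum_congr rfl fun u _ => by rw [hb u]; ring
      · rintro ⟨t, rfl⟩
        refine ⟨t • c, ?_⟩
        show ψ (t • c) = t • ((g : ℤ) : ZMod _)
        rw [map_zsmul, hψ, betaHom_apply']
        congr 2
        rw [show g = _ from hc]
        exact sum_congr rfl fun u _ => mul_comm _ _
    rw [← hkerψ, AddSubgroup.index_ker, hrange, Nat.card_zmultiples, ZMod.addOrderOf_coe _ hn, hq,
      Nat.gcd_eq_right (dvd_mul_right _ _), Nat.mul_div_cancel_left _ (Int.natAbs_pos.2 hg0)]
  -- [K : A] [A : I] = [Q : P]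
  have hinf : P ⊓ K = I := by
    refine le_antisymm ?_ (le_inf (fun x hx => (hPmem x).2 ⟨x, hx, 0, by simp⟩) (hIA.trans hAK))
    rintro x ⟨hx, hxK⟩
    obtain ⟨i, hi, t, rfl⟩ := (hPmem x).1 hx
    have h1 : φ i = 0 := hAK (hIA hi)
    have h2 : φ (i + t • (Pi.single v 1 : V → ℤ)) = 0 := hxK
    rw [map_add, map_smul, h1, hφδ, zero_add, smul_eq_mul, mul_eq_zero] at h2
    rcases h2 with h2 | h2
    · simpa [h2] using hi
    · exact absurd h2 hvpos.ne'
  have hPQ : P.relIndex Q = I.relIndex A * A.relIndex K := by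
    show P.relIndex (P ⊔ K) = _
    rw [AddSubgroup.relIndex_sup_left, ← AddSubgroup.inf_relIndex_right, hinf,
      AddSubgroup.relIndex_mul_relIndex _ _ _ hIA hAK]
  -- [A : I]
  have hIA' : I.relIndex A = (b v).natAbs := by
    have hA : A = (⊤ : AddSubgroup (V → ℤ)).map α.toAddMonoidHom := by
      ext x; simp [A, LinearMap.mem_range]
    rw [hA, AddSubgroup.relIndex_map_map, top_sup_eq, AddSubgroup.relIndex_top_right]
    have hbv : evv.ker ⊔ α.toAddMonoidHom.ker = (AddSubgroup.zmultiples (b v)).comap evv := by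
      ext z
      constructor
      · intro hz
        obtain ⟨p, hp, k, hk, rfl⟩ := AddSubgroup.mem_sup.1 hz
        rw [AddSubgroup.mem_comap, map_add, show evv p = 0 from hp, zero_add, Int.mem_zmultiples_iff]
        have hk' := hker k hk
        have e : ∑ x, c x * (β v * k x) = ∑ x, c x * (k v * β x) := sum_congr rfl fun x _ => by rw [hk']
        have e2 : β v * ∑ x, c x * k x = k v * g := by
          rw [mul_sum]
          calc ∑ x, β v * (c x * k x) = ∑ x, c x * (k v * β x) := by
                rw [← e]; exact sum_congr rfl fun x _ => by ring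
            _ = k v * g := by rw [show g = _ from hc, mul_sum]; exact sum_congr rfl fun x _ => by ring
        refine ⟨∑ x, c x * k x, ?_⟩
        rw [hb v] at e2
        show k v = _
        refine mul_left_cancel₀ hg0 ?_
        linear_combination -e2
      · intro hz
        rw [AddSubgroup.mem_comap, Int.mem_zmultiples_iff] at hz
        obtain ⟨t, ht⟩ := hz
        have ht' : z v = b v * t := ht
        have hbk : α b = 0 := by
          have h1 : α (g • b) = 0 := by
            rw [show g • b = β from funext fun x => (hb x).symm]; exact hαβ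
          rw [map_smul] at h1
          exact (smul_eq_zero.1 h1).resolve_left hg0
        have h1 : z - t • b ∈ evv.ker := by
          show z v - t * b v = 0
          rw [ht']; ring
        have h2 : t • b ∈ α.toAddMonoidHom.ker := by
          show α (t • b) = 0
          rw [map_smul, hbk, smul_zero]
        have := AddSubgroup.add_mem_sup h1 h2
        rwa [sub_add_cancel] at this
    rw [hbv, AddSubgroup.index_comap_of_surjective _ (fun y => ⟨Pi.single v y, by simp [evv]⟩),
      Int.index_zmultiples]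
  have hcard : Nat.card (CompGrp ends β) = A.relIndex K := rfl
  have htot : P.relIndex Q * Q.index = P.index := AddSubgroup.relIndex_mul_index le_sup_left
  rw [hcard, ← hP, ← htot, hPQ, hIA', hQ, hq]
  ring

open Classical in
theorem card_compGrp (hβ : IsMultFn ends β) (hG : LabGraph.Connected ends) :
    (Nat.card (CompGrp ends β) : ℚ) =
      ((univ.gcd β : ℤ) : ℚ) ^ 2 *
        ∑ T ∈ (univ : Finset E).powerset.filter (fun T : Finset E => IsSpanningTree ends T),
          ∏ x : V, ((β x : ℚ) ^ ((nbrCount ends T x : ℤ) - 2)) := by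
  obtain ⟨v⟩ := hG.1
  have h1 := congrArg (fun n : ℕ => (n : ℤ)) (card_compGrp_mul v hβ hG)
  simp only [Nat.cast_mul, Nat.cast_pow, Int.natAbs_sq] at h1
  have h2 := minor_det v (ends := ends) hβ
  have hpos : ∀ x, (β x : ℚ) ≠ 0 := fun x => Int.cast_ne_zero.2 (hβ x).1.ne'
  have hprod : β v * ∏ i : {x : V // x ≠ v}, β i.1 = ∏ x, β x := by
    rw [← mul_prod_erase _ _ (mem_univ v), prod_subtype (univ.erase v) (p := fun x => x ≠ v) (by simp)]
  have h3 : (Nat.card (CompGrp ends β) : ℤ) * (∏ x, β x) ^ 2 = univ.gcd β ^ 2 *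
      ∑ T ∈ (univ : Finset E).powerset.filter (fun T : Finset E => IsSpanningTree ends T),
        ∏ x, β x ^ nbrCount ends T x := by
    rw [← h2, ← hprod]
    linear_combination (∏ i : {x : V // x ≠ v}, β i.1) ^ 2 * h1
  have h4 := congrArg (fun n : ℤ => (n : ℚ)) h3
  push_cast at h4
  have hne : (∏ x, (β x : ℚ)) ^ 2 ≠ 0 := pow_ne_zero _ (prod_ne_zero_iff.2 fun x _ => hpos x)
  rw [eq_div_of_mul_eq hne h4, mul_div_assoc, sum_div]
  congr 1
  refine sum_congr rfl fun T _ => ?_
  rw [← prod_pow, ← prod_div_distrib]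
  refine prod_congr rfl fun x _ => ?_
  rw [zpow_sub₀ (hpos x), zpow_natCast]
  norm_cast

end compgrp

end Groth.Agent.H25Graph
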