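import Groth.Agent.H25Graph.Basic
import Groth.Prelude.Def_W4c5modbuncurvesppStab
import Groth.Prelude.Def_W4c2conddiscmodels
import Mathlib.Algebra.Order.Round

/-! Stability conditions on multigraphs. -/

set_option autoImplicit false
set_option linter.unusedSectionVars false

universe u w

namespace Groth.Agent.H25Graph

open Finset LabGraph PhiStab

variable {V E : Type u} [Fintype V] [Fintype E] [DecidableEq V] [DecidableEq E]
variable {ends : E → V × V}

lemma side_eq (ends : E → V × V) (e : E) :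
    side ends e = comp ends ((univ : Finset E).erase e) (ends e).1 := by
  have : Adj (spanEnds ends ((univ : Finset E).erase e)) = Step ends ((univ : Finset E).erase e) := by
    funext x y
    exact propext ⟨fun ⟨f, h⟩ => ⟨f.1, f.2, h⟩, fun ⟨f, hf, h⟩ => ⟨⟨f, hf⟩, h⟩⟩
  ext v
  simp [mem_comp, side, this, Reach]

/-- Prescribing all side sums and the total on a spanning tree. -/
lemma tree_unique {R : Type w} [CommRing R] {T : Finset E} [Nonempty V] (hc : ConnOn ends T)
    (hF : ForestOn ends T) (c : E → R) (c₀ : R) :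
    ∃! φ : V → R, (∀ e ∈ T, ∑ v ∈ comp ends (T.erase e) (ends e).1, φ v = c e) ∧ ∑ v, φ v = c₀ := by
  classical
  obtain ⟨v₀⟩ := (inferInstance : Nonempty V)
  let γ : E → R := fun e =>
    if e ∈ T then (if v₀ ∈ comp ends (T.erase e) (ends e).1 then c₀ else 0) - c e else 0
  have htot : ∀ δ : E → R, ∑ v, bd ends δ v = 0 := fun δ => by simp [sum_bd]
  refine ⟨fun v => bd ends γ v + (if v₀ = v then c₀ else 0), ⟨fun e he => ?_, ?_⟩, fun ψ hψ => ?_⟩
  · rw [sum_add_distrib, hF.sum_side (γ := γ) (fun f hf => if_neg hf) he, sum_ite_eq]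
    simp only [γ, if_pos he]
    ring
  · rw [sum_add_distrib, htot, sum_ite_eq, if_pos (mem_univ _), zero_add]
  · set d : V → R := fun v => ψ v - (bd ends γ v + if v₀ = v then c₀ else 0)
    have hd : ∑ v, d v = 0 := by
      simp only [d]; rw [sum_sub_distrib, sum_add_distrib, htot, sum_ite_eq, if_pos (mem_univ _), hψ.2]; ring
    obtain ⟨δ, h0, h1⟩ := hc.exists_flow v₀ d
    simp only [hd, ite_self, sub_zero] at h1
    have hδ : δ = 0 := by
      funext e
      by_cases he : e ∈ T
      · have h2 := hF.sum_side h0 he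
        rw [sum_congr rfl fun v _ => h1 v] at h2
        simp only [d] at h2
        rw [sum_sub_distrib, hψ.1 e he, sum_add_distrib, hF.sum_side (γ := γ) (fun f hf => if_neg hf) he,
          sum_ite_eq] at h2
        simp only [γ, if_pos he] at h2
        simp only [Pi.zero_apply]
        linear_combination h2
      · exact h0 e he
    funext v
    have := h1 v
    rw [hδ] at this
    simp only [bd, Pi.zero_apply, ite_self, sub_self, sum_const_zero, d] at this
    simp only [bd]
    exact sub_eq_zero.1 this.symm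

lemma existsUnique_sideSum (ends : E → V × V) (hT : DualGr.IsTree ends) (c : E → ℝ) (c₀ : ℝ) :
    ∃! φ : V → ℝ, (∀ e : E, (∑ v ∈ side ends e, φ v) = c e) ∧ (∑ v : V, φ v) = c₀ := by
  obtain ⟨hV, hc, hF⟩ := (isTree_iff ends).1 hT
  simpa [side_eq] using tree_unique hc hF c c₀

/-- Indicator. -/
noncomputable def ind (S : Finset V) (v : V) : ℝ := if v ∈ S then 1 else 0

lemma sum_ind (S : Finset V) (f : V → ℝ) : ∑ v, ind S v * f v = ∑ v ∈ S, f v := by
  simp [ind, sum_ite_mem]

/-- Stability defect. -/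
noncomputable def gap (ends : E → V × V) (φ : V → ℝ) (m : V → ℤ) (N : Finset E) (S : Finset V) : ℝ :=
  (degOn ends m N S : ℝ) - (∑ v ∈ S, φ v) + (cut ends S : ℝ) / 2

lemma gap_eq (φ : V → ℝ) (m : V → ℤ) (N : Finset E) (S : Finset V) :
    gap ends φ m N S = ∑ v, ind S v * ((m v : ℝ) - φ v) +
      ∑ e ∈ N, ind S (ends e).1 * ind S (ends e).2 +
      ∑ e, (ind S (ends e).1 + ind S (ends e).2 - 2 * ind S (ends e).1 * ind S (ends e).2) / 2 := by
  have h1 : ((N ∩ PhiStab.inner ends S).card : ℝ) = ∑ e ∈ N, ind S (ends e).1 * ind S (ends e).2 := by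
    rw [PhiStab.inner, inter_filter, inter_univ, ← sum_boole]
    refine sum_congr rfl fun e _ => ?_
    unfold ind; split_ifs <;> simp_all
  have h2 : (cut ends S : ℝ) =
      ∑ e, (ind S (ends e).1 + ind S (ends e).2 - 2 * ind S (ends e).1 * ind S (ends e).2) := by
    rw [cut, ← sum_boole]
    refine sum_congr rfl fun e _ => ?_
    unfold ind; split_ifs <;> norm_num <;> simp_all
  rw [gap, degOn, h2, ← sum_div, sum_ind, sum_sub_distrib (s := S)]
  push_cast
  rw [h1]
  try ring


lemma gap_union (φ : V → ℝ) (m : V → ℤ) (N : Finset E) {A B : Finset V} (hd : Disjoint A B)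
    (h : ∀ e, ¬ (((ends e).1 ∈ A ∧ (ends e).2 ∈ B) ∨ ((ends e).1 ∈ B ∧ (ends e).2 ∈ A))) :
    gap ends φ m N (A ∪ B) = gap ends φ m N A + gap ends φ m N B := by
  have hi : ∀ v, ind (A ∪ B) v = ind A v + ind B v := fun v => by
    have hh : v ∈ _ → v ∉ _ := fun hv => Finset.disjoint_left.1 hd hv
    unfold ind
    by_cases v ∈ A <;> by_cases v ∈ B <;> simp_all
  have hz : ∀ e, ind A (ends e).1 * ind B (ends e).2 + ind B (ends e).1 * ind A (ends e).2 = 0 := fun e => by
    have := h e
    unfold ind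
    split_ifs <;> simp_all
  simp only [gap_eq, hi]
  rw [← sub_eq_zero]
  have e1 : ∀ v, (ind A v + ind B v) * ((m v : ℝ) - φ v) =
      ind A v * ((m v : ℝ) - φ v) + ind B v * ((m v : ℝ) - φ v) := fun v => add_mul _ _ _
  have e2 : ∀ e, (ind A (ends e).1 + ind B (ends e).1) * (ind A (ends e).2 + ind B (ends e).2) =
      ind A (ends e).1 * ind A (ends e).2 + ind B (ends e).1 * ind B (ends e).2 := fun e => by
    linear_combination hz e
  have e3 : ∀ e, (ind A (ends e).1 + ind B (ends e).1 + (ind A (ends e).2 + ind B (ends e).2) -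
      2 * (ind A (ends e).1 + ind B (ends e).1) * (ind A (ends e).2 + ind B (ends e).2)) / 2 =
      (ind A (ends e).1 + ind A (ends e).2 - 2 * ind A (ends e).1 * ind A (ends e).2) / 2 +
      (ind B (ends e).1 + ind B (ends e).2 - 2 * ind B (ends e).1 * ind B (ends e).2) / 2 := fun e => by
    linear_combination (-1 : ℝ) * hz e
  simp only [e1, e2, e3, sum_add_distrib]
  ring

lemma gap_split (φ : V → ℝ) (m : V → ℤ) (N : Finset E) (hdeg : (∑ v : V, φ v) = (totDeg m N : ℝ))
    {S A B : Finset V} (hSA : Disjoint S A) (hSB : Disjoint S B) (hAB : Disjoint A B)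
    (hun : S ∪ A ∪ B = univ)
    (h : ∀ e, ¬ (((ends e).1 ∈ A ∧ (ends e).2 ∈ B) ∨ ((ends e).1 ∈ B ∧ (ends e).2 ∈ A))) :
    gap ends φ m N S = gap ends φ m N (S ∪ A) + gap ends φ m N (S ∪ B) := by
  have hone : ∀ v, ind S v + ind A v + ind B v = 1 := fun v => by
    have h1 : v ∈ S → v ∉ A := fun hv => Finset.disjoint_left.1 hSA hv
    have h2 : v ∈ S → v ∉ B := fun hv => Finset.disjoint_left.1 hSB hv
    have h3 : v ∈ A → v ∉ B := fun hv => Finset.disjoint_left.1 hAB hv
    have h4 : v ∈ S ∪ A ∪ B := hun ▸ mem_univ v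
    simp only [mem_union] at h4
    unfold ind
    split_ifs <;> simp_all
  have hiA : ∀ v, ind (S ∪ A) v = ind S v + ind A v := fun v => by
    have hh : v ∈ _ → v ∉ _ := fun hv => Finset.disjoint_left.1 hSA hv
    unfold ind
    by_cases v ∈ S <;> by_cases v ∈ A <;> simp_all
  have hiB : ∀ v, ind (S ∪ B) v = ind S v + ind B v := fun v => by
    have hh : v ∈ _ → v ∉ _ := fun hv => Finset.disjoint_left.1 hSB hv
    unfold ind
    by_cases v ∈ S <;> by_cases v ∈ B <;> simp_all
  have hz : ∀ e, ind A (ends e).1 * ind B (ends e).2 + ind B (ends e).1 * ind A (ends e).2 = 0 := fun e => by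
    have := h e
    unfold ind
    split_ifs <;> simp_all
  simp only [gap_eq, hiA, hiB]
  have htot : ∑ v, ((m v : ℝ) - φ v) + ∑ _e ∈ N, (1 : ℝ) = 0 := by
    rw [sum_sub_distrib, hdeg, totDeg]; push_cast; simp
  have e1 : ∀ v, (ind S v + ind A v) * ((m v : ℝ) - φ v) + (ind S v + ind B v) * ((m v : ℝ) - φ v) =
      ind S v * ((m v : ℝ) - φ v) + ((m v : ℝ) - φ v) := fun v => by
    linear_combination ((m v : ℝ) - φ v) * hone v
  have e2 : ∀ e, (ind S (ends e).1 + ind A (ends e).1) * (ind S (ends e).2 + ind A (ends e).2) +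
      (ind S (ends e).1 + ind B (ends e).1) * (ind S (ends e).2 + ind B (ends e).2) =
      ind S (ends e).1 * ind S (ends e).2 + 1 := fun e => by
    linear_combination (ind S (ends e).2 + ind A (ends e).2 + ind B (ends e).2) * hone (ends e).1 +
      hone (ends e).2 - hz e
  have e3 : ∀ e, (ind S (ends e).1 + ind A (ends e).1 + (ind S (ends e).2 + ind A (ends e).2) -
        2 * (ind S (ends e).1 + ind A (ends e).1) * (ind S (ends e).2 + ind A (ends e).2)) / 2 +
      (ind S (ends e).1 + ind B (ends e).1 + (ind S (ends e).2 + ind B (ends e).2) -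
        2 * (ind S (ends e).1 + ind B (ends e).1) * (ind S (ends e).2 + ind B (ends e).2)) / 2 =
      (ind S (ends e).1 + ind S (ends e).2 - 2 * ind S (ends e).1 * ind S (ends e).2) / 2 := fun e => by
    linear_combination (-1 : ℝ) * e2 e + (1 / 2 : ℝ) * hone (ends e).1 + (1 / 2 : ℝ) * hone (ends e).2
  have s1 := sum_congr (rfl : (univ : Finset V) = univ) fun v _ => e1 v
  have s2 := sum_congr (rfl : N = N) fun e _ => e2 e
  have s3 := sum_congr (rfl : (univ : Finset E) = univ) fun e _ => e3 e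
  rw [sum_add_distrib, sum_add_distrib] at s1 s2
  rw [sum_add_distrib] at s3
  linarith [s1, s2, s3, htot]

/-- `S` induces a connected subgraph. -/
def ConnIn (ends : E → V × V) (S : Finset V) : Prop :=
  S.Nonempty ∧ ∀ x ∈ S, ∀ y ∈ S, Reach ends (PhiStab.inner ends S) x y

lemma connected_indEnds_iff (S : Finset V) : Connected (indEnds ends S) ↔ ConnIn ends S := by
  constructor
  · rintro ⟨⟨x⟩, h⟩
    refine ⟨⟨x.1, x.2⟩, fun a ha b hb => ?_⟩
    have key : ∀ p q : {v // v ∈ S}, Relation.ReflTransGen (Adj (indEnds ends S)) p q →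
        Reach ends (PhiStab.inner ends S) p.1 q.1 := by
      intro p q hpq
      induction hpq with
      | refl => exact Reach.rfl'
      | tail _ h2 ih =>
        obtain ⟨f, h'⟩ := h2
        refine ih.trans' (Relation.ReflTransGen.single ⟨f.1, f.2, ?_⟩)
        rcases h' with h' | h'
        · left; exact Prod.ext (congrArg Subtype.val (congrArg Prod.fst h')) (congrArg Subtype.val (congrArg Prod.snd h'))
        · right; exact Prod.ext (congrArg Subtype.val (congrArg Prod.fst h')) (congrArg Subtype.val (congrArg Prod.snd h'))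
    exact key ⟨a, ha⟩ ⟨b, hb⟩ (h _ _)
  · rintro ⟨⟨x, hx⟩, h⟩
    refine ⟨⟨⟨x, hx⟩⟩, fun p q => ?_⟩
    have key : ∀ a b : V, Reach ends (PhiStab.inner ends S) a b → ∀ ha : a ∈ S, ∃ hb : b ∈ S,
        Relation.ReflTransGen (Adj (indEnds ends S)) ⟨a, ha⟩ ⟨b, hb⟩ := by
      intro a b hab
      induction hab with
      | refl => exact fun ha => ⟨ha, Relation.ReflTransGen.refl⟩
      | @tail y z _ h2 ih =>
        intro ha
        obtain ⟨hy, hr⟩ := ih ha
        obtain ⟨f, hf, h'⟩ := h2
        have hf2 := (mem_filter.1 hf).2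
        have hz : z ∈ S := by rcases h' with h' | h' <;> rw [h'] at hf2; exacts [hf2.2, hf2.1]
        refine ⟨hz, hr.tail ⟨⟨f, hf⟩, ?_⟩⟩
        rcases h' with h' | h'
        · left; simp [indEnds, h']
        · right; simp [indEnds, h']
    obtain ⟨hq, hr⟩ := key p.1 q.1 (h p.1 p.2 q.1 q.2) p.2
    exact hr

lemma isElementary_iff (S : Finset V) : IsElementary ends S ↔ ConnIn ends S ∧ ConnIn ends Sᶜ := by
  rw [IsElementary, connected_indEnds_iff, connected_indEnds_iff]

/-- A nonempty set not inducing a connected subgraph splits. -/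
lemma split_of_not_connIn {S : Finset V} (hne : S.Nonempty) (h : ¬ ConnIn ends S) :
    ∃ A B : Finset V, A.Nonempty ∧ B.Nonempty ∧ Disjoint A B ∧ A ∪ B = S ∧
      ∀ e, ¬ (((ends e).1 ∈ A ∧ (ends e).2 ∈ B) ∨ ((ends e).1 ∈ B ∧ (ends e).2 ∈ A)) := by
  simp only [ConnIn, hne, true_and, not_forall] at h
  obtain ⟨x, hx, y, hy, hxy⟩ := h
  set A := comp ends (PhiStab.inner ends S) x
  have hAS : A ⊆ S := fun z hz => ((mem_comp _ _).1 hz).mem_of_closed
    (fun e he => by have := (mem_filter.1 he).2; simp [this.1, this.2]) hx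
  refine ⟨A, S \ A, ⟨x, self_mem_comp _ _ _⟩, ⟨y, mem_sdiff.2 ⟨hy, fun h => hxy ((mem_comp _ _).1 h)⟩⟩,
    disjoint_sdiff, union_sdiff_of_subset hAS, fun e he => ?_⟩
  simp only [mem_sdiff] at he
  have hin : e ∈ PhiStab.inner ends S := mem_filter.2 ⟨mem_univ _, by
    rcases he with ⟨h1, h2, -⟩ | ⟨⟨h1, -⟩, h2⟩
    · exact ⟨hAS h1, h2⟩
    · exact ⟨h1, hAS h2⟩⟩
  have := comp_closed ends (PhiStab.inner ends S) x hin
  tauto

lemma connIn_union (hconn : ConnOn ends univ) {S A B : Finset V} (hS : ConnIn ends S)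
    (hun : S ∪ A ∪ B = univ)
    (h : ∀ e, ¬ (((ends e).1 ∈ A ∧ (ends e).2 ∈ B) ∨ ((ends e).1 ∈ B ∧ (ends e).2 ∈ A))) :
    ConnIn ends (S ∪ A) := by
  obtain ⟨⟨x, hx⟩, hSc⟩ := hS
  set D := comp ends (PhiStab.inner ends (S ∪ A)) x
  have hsub : PhiStab.inner ends S ⊆ PhiStab.inner ends (S ∪ A) := fun e he => by
    simp only [PhiStab.inner, mem_filter, mem_univ, true_and, mem_union] at he ⊢; tauto
  have hSD : ∀ s ∈ S, s ∈ D := fun s hs => (mem_comp _ _).2 ((hSc x hx s hs).mono hsub)
  have hall : ∀ y ∈ S ∪ A, y ∈ D := by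
    intro y hy
    by_contra hyD
    obtain ⟨e, -, he⟩ := hconn.exists_cross (S := (S ∪ A) \ D) ⟨y, mem_sdiff.2 ⟨hy, hyD⟩⟩
      (fun hh => by
        have := hh ▸ mem_univ x
        exact (mem_sdiff.1 this).2 (hSD x hx))
    have h3 : ∀ z, z ∈ S ∨ z ∈ A ∨ z ∈ B := fun z => by
      have : z ∈ S ∪ A ∪ B := hun ▸ mem_univ z
      simpa [or_assoc] using this
    have key : ∀ p q, p ∈ (S ∪ A) \ D → q ∉ (S ∪ A) \ D →
        (ends e = (p, q) ∨ ends e = (q, p)) → False := by
      intro p q hp hq he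
      obtain ⟨hp1, hp2⟩ := mem_sdiff.1 hp
      have hqA : q ∈ S ∪ A → False := fun hq1 => by
        have hqD : q ∈ D := by by_contra hh; exact hq (mem_sdiff.2 ⟨hq1, hh⟩)
        have hin : e ∈ PhiStab.inner ends (S ∪ A) := mem_filter.2 ⟨mem_univ _, by
          rcases he with he | he <;> rw [he] <;> simp only <;> tauto⟩
        have hcl := comp_closed ends (PhiStab.inner ends (S ∪ A)) x hin
        rcases he with he | he <;> rw [he] at hcl <;> simp only at hcl
        · exact hp2 (hcl.2 hqD)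
        · exact hp2 (hcl.1 hqD)
      have hqB : q ∈ B := by
        rcases h3 q with hh | hh | hh
        · exact (hqA (mem_union_left _ hh)).elim
        · exact (hqA (mem_union_right _ hh)).elim
        · exact hh
      have hpA : p ∈ A := by
        rcases mem_union.1 hp1 with hh | hh
        · exact (hp2 (hSD p hh)).elim
        · exact hh
      rcases he with he | he
      · exact h e (Or.inl ⟨by rw [he]; exact hpA, by rw [he]; exact hqB⟩)
      · exact h e (Or.inr ⟨by rw [he]; exact hqB, by rw [he]; exact hpA⟩)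
    by_cases hf : (ends e).1 ∈ (S ∪ A) \ D
    · exact key _ _ hf (fun hs => he (iff_of_true hf hs)) (Or.inl rfl)
    · exact key _ _ (by by_contra hs; exact he (iff_of_false hf hs)) hf (Or.inr rfl)
  exact ⟨⟨x, mem_union_left _ hx⟩, fun a ha b hb =>
    ((mem_comp _ _).1 (hall a ha)).symm.trans' ((mem_comp _ _).1 (hall b hb))⟩

/-- Inequalities on elementary sets propagate. -/
lemma gap_pos_of_elementary (hconn : ConnOn ends univ) (φ : V → ℝ) (m : V → ℤ) (N : Finset E)
    (hdeg : (∑ v : V, φ v) = (totDeg m N : ℝ)) (P : ℝ → Prop) (hP : ∀ a b, P a → P b → P (a + b))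
    (h : ∀ S, IsElementary ends S → P (gap ends φ m N S)) :
    ∀ S : Finset V, S.Nonempty → S ≠ univ → P (gap ends φ m N S) := by
  have hc : ∀ S : Finset V, ConnIn ends S → S ≠ univ → P (gap ends φ m N S) := by
    intro S
    induction S using (measure fun S : Finset V => Sᶜ.card).wf.induction with
    | _ S ih =>
      intro hS hun
      have hne : Sᶜ.Nonempty := by
        rw [nonempty_iff_ne_empty]; exact fun hh => hun (compl_eq_empty_iff S |>.1 hh)
      by_cases hSc : ConnIn ends Sᶜ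
      · exact h S ((isElementary_iff S).2 ⟨hS, hSc⟩)
      obtain ⟨A, B, hA, hB, hd, hAB, hno⟩ := split_of_not_connIn hne hSc
      have hno' : ∀ e, ¬ (((ends e).1 ∈ B ∧ (ends e).2 ∈ A) ∨ ((ends e).1 ∈ A ∧ (ends e).2 ∈ B)) :=
        fun e => by have := hno e; tauto
      have hSA : Disjoint S A := disjoint_compl_right.mono_right (hAB ▸ subset_union_left)
      have hSB : Disjoint S B := disjoint_compl_right.mono_right (hAB ▸ subset_union_right)
      have hu : S ∪ A ∪ B = univ := by rw [union_assoc, hAB, union_compl]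
      have hu' : S ∪ B ∪ A = univ := by rw [union_assoc, union_comm B, hAB, union_compl]
      rw [gap_split φ m N hdeg hSA hSB hd hu hno]
      refine hP _ _ (ih _ ?_ (connIn_union hconn hS hu hno) ?_) (ih _ ?_ (connIn_union hconn hS hu' hno') ?_)
      · refine card_lt_card (Finset.ssubset_iff_subset_ne.2 ⟨compl_le_compl subset_union_left, fun hh => ?_⟩)
        obtain ⟨a, ha⟩ := hA
        have : a ∈ S := by rw [compl_inj_iff.1 hh |>.symm]; exact mem_union_right _ ha
        exact Finset.disjoint_left.1 hSA this ha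
      · intro hh
        obtain ⟨b, hb⟩ := hB
        rcases mem_union.1 (hh ▸ mem_univ b) with h1 | h1
        · exact Finset.disjoint_left.1 hSB h1 hb
        · exact Finset.disjoint_left.1 hd h1 hb
      · refine card_lt_card (Finset.ssubset_iff_subset_ne.2 ⟨compl_le_compl subset_union_left, fun hh => ?_⟩)
        obtain ⟨a, ha⟩ := hB
        have : a ∈ S := by rw [compl_inj_iff.1 hh |>.symm]; exact mem_union_right _ ha
        exact Finset.disjoint_left.1 hSB this ha
      · intro hh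
        obtain ⟨b, hb⟩ := hA
        rcases mem_union.1 (hh ▸ mem_univ b) with h1 | h1
        · exact Finset.disjoint_left.1 hSA h1 hb
        · exact Finset.disjoint_right.1 hd h1 hb
  intro S
  induction S using Finset.strongInduction with
  | _ S ih =>
    intro hne hun
    by_cases hS : ConnIn ends S
    · exact hc S hS hun
    obtain ⟨A, B, hA, hB, hd, hAB, hno⟩ := split_of_not_connIn hne hS
    have h1 : A ⊂ S := hAB ▸ Finset.ssubset_iff_subset_ne.2 ⟨subset_union_left, fun hh => by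
      obtain ⟨b, hb⟩ := hB
      exact Finset.disjoint_right.1 hd hb (hh.symm ▸ mem_union_right _ hb)⟩
    have h2 : B ⊂ S := hAB ▸ Finset.ssubset_iff_subset_ne.2 ⟨subset_union_right, fun hh => by
      obtain ⟨b, hb⟩ := hA
      exact Finset.disjoint_left.1 hd hb (hh.symm ▸ mem_union_left _ hb)⟩
    rw [← hAB, gap_union φ m N hd hno]
    exact hP _ _ (ih A h1 hA (fun hh => h1.ne (hh.trans (univ_subset_iff.1 (hh ▸ h1.subset)).symm)))
      (ih B h2 hB (fun hh => h2.ne (hh.trans (univ_subset_iff.1 (hh ▸ h2.subset)).symm)))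

lemma isElementary_proper {S : Finset V} (h : IsElementary ends S) : S.Nonempty ∧ S ≠ univ := by
  obtain ⟨⟨h1, -⟩, h2, -⟩ := (isElementary_iff S).1 h
  exact ⟨h1, fun hh => by simp [hh] at h2⟩

lemma semistable_iff_gap (φ : V → ℝ) (m : V → ℤ) (N : Finset E) :
    IsSemistable ends φ m N ↔ ∀ S : Finset V, S.Nonempty → S ≠ univ → 0 ≤ gap ends φ m N S := by
  refine forall_congr' fun S => imp_congr_right fun _ => imp_congr_right fun _ => ?_
  rw [gap]; constructor <;> intro <;> linarith

lemma stable_iff_gap (φ : V → ℝ) (m : V → ℤ) (N : Finset E) :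
    IsStable ends φ m N ↔ ∀ S : Finset V, S.Nonempty → S ≠ univ → 0 < gap ends φ m N S := by
  refine forall_congr' fun S => imp_congr_right fun _ => imp_congr_right fun _ => ?_
  rw [gap]; constructor <;> intro <;> linarith

lemma elementary_criterion (hconn : LabGraph.Connected ends)
    (φ : V → ℝ) (m : V → ℤ) (N : Finset E) (hdeg : (∑ v : V, φ v) = (totDeg m N : ℝ)) :
    (IsSemistable ends φ m N ↔
      ∀ S : Finset V, IsElementary ends S →
        (∑ v ∈ S, φ v) - (LabGraph.cut ends S : ℝ) / 2 ≤ (degOn ends m N S : ℝ)) ∧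
    (IsStable ends φ m N ↔
      ∀ S : Finset V, IsElementary ends S →
        (∑ v ∈ S, φ v) - (LabGraph.cut ends S : ℝ) / 2 < (degOn ends m N S : ℝ)) := by
  have hc := ((connected_iff ends).1 hconn).2
  refine ⟨⟨fun h S hS => h S (isElementary_proper hS).1 (isElementary_proper hS).2, fun h => ?_⟩,
    ⟨fun h S hS => h S (isElementary_proper hS).1 (isElementary_proper hS).2, fun h => ?_⟩⟩
  · rw [semistable_iff_gap]
    exact gap_pos_of_elementary hc φ m N hdeg (fun a => 0 ≤ a) (fun a b => add_nonneg)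
      fun S hS => by have := h S hS; rw [gap]; linarith
  · rw [stable_iff_gap]
    exact gap_pos_of_elementary hc φ m N hdeg (fun a => 0 < a) (fun a b => add_pos)
      fun S hS => by have := h S hS; rw [gap]; linarith

section tree
variable {T : Finset E}

/-- The gap for data supported off a spanning tree. -/
lemma gap_tree (hc : ConnOn ends T) (hF : ForestOn ends T) (φ : V → ℝ) (m : V → ℤ)
    (hdeg : (∑ v : V, φ v) = (totDeg m Tᶜ : ℝ)) :
    ∃ γ : E → ℝ, (∀ e ∈ T, γ e = - ∑ v ∈ comp ends (T.erase e) (ends e).1,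
        ((m v : ℝ) - φ v + (endCount ends Tᶜ v : ℝ) / 2)) ∧
      ∀ S : Finset V, gap ends φ m Tᶜ S = ∑ e ∈ T,
        (γ e * (ind S (ends e).2 - ind S (ends e).1) +
          (ind S (ends e).1 + ind S (ends e).2 - 2 * ind S (ends e).1 * ind S (ends e).2) / 2) := by
  set r : V → ℝ := fun v => (m v : ℝ) - φ v + (endCount ends Tᶜ v : ℝ) / 2
  have hec : ∀ S : Finset V, ∑ v ∈ S, (endCount ends Tᶜ v : ℝ) / 2 =
      ∑ e ∈ Tᶜ, (ind S (ends e).1 + ind S (ends e).2) / 2 := fun S => by
    simp only [endCount, Nat.cast_sum, Nat.cast_add, Nat.cast_ite, Nat.cast_one, Nat.cast_zero, sum_div]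
    rw [sum_comm]
    refine sum_congr rfl fun e _ => ?_
    simp only [← sum_div, sum_add_distrib, sum_ite_eq, ind]
  by_cases hV : Nonempty V
  swap
  · refine ⟨0, fun e _ => absurd ⟨(ends e).1⟩ hV, fun S => ?_⟩
    have hE : IsEmpty E := ⟨fun e => hV ⟨(ends e).1⟩⟩
    have : IsEmpty V := not_nonempty_iff.1 hV
    simp [gap_eq, Finset.eq_empty_of_isEmpty]
  obtain ⟨v₀⟩ := hV
  have h0 : ∑ v, r v = 0 := by
    simp only [r, sum_add_distrib, sum_sub_distrib, hec]
    simp only [ind, mem_univ, if_true, hdeg, totDeg]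
    push_cast
    simp
  obtain ⟨γ, g0, g1⟩ := hc.exists_flow v₀ r
  simp only [h0, ite_self, sub_zero] at g1
  refine ⟨γ, fun e he => ?_, fun S => ?_⟩
  · show γ e = - ∑ v ∈ _, r v
    rw [sum_congr rfl fun v _ => (g1 v).symm, hF.sum_side g0 he, neg_neg]
  · have hr : ∑ v ∈ S, r v = ∑ e, γ e * (ind S (ends e).2 - ind S (ends e).1) := by
      rw [sum_congr rfl fun v _ => (g1 v).symm, sum_bd]
      rfl
    rw [← sum_subset (subset_univ T) (fun e _ he => by rw [g0 e he, zero_mul])] at hr
    simp only [r, sum_add_distrib, hec] at hr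
    rw [gap_eq, sum_ind, sum_add_distrib, ← sum_add_sum_compl T, ← hr]
    have : ∑ e ∈ Tᶜ, (ind S (ends e).1 + ind S (ends e).2) / 2 = ∑ e ∈ Tᶜ, ind S (ends e).1 * ind S (ends e).2 +
        ∑ e ∈ Tᶜ, (ind S (ends e).1 + ind S (ends e).2 - 2 * ind S (ends e).1 * ind S (ends e).2) / 2 := by
      rw [← sum_add_distrib]; exact sum_congr rfl fun e _ => by ring
    linarith

lemma tree_stable_iff [Nonempty V] (hc : ConnOn ends T) (hF : ForestOn ends T) (φ : V → ℝ) (m : V → ℤ)
    (hdeg : (∑ v : V, φ v) = (totDeg m Tᶜ : ℝ)) :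
    (IsSemistable ends φ m Tᶜ ↔ ∀ e ∈ T, |∑ v ∈ comp ends (T.erase e) (ends e).1,
        ((m v : ℝ) - φ v + (endCount ends Tᶜ v : ℝ) / 2)| ≤ 1 / 2) ∧
    (IsStable ends φ m Tᶜ ↔ ∀ e ∈ T, |∑ v ∈ comp ends (T.erase e) (ends e).1,
        ((m v : ℝ) - φ v + (endCount ends Tᶜ v : ℝ) / 2)| < 1 / 2) := by
  obtain ⟨γ, hγ, hg⟩ := gap_tree hc hF φ m hdeg
  have hgap : ∀ e ∈ T, gap ends φ m Tᶜ (comp ends (T.erase e) (ends e).1) = - γ e + 1 / 2 ∧
      gap ends φ m Tᶜ (comp ends (T.erase e) (ends e).1)ᶜ = γ e + 1 / 2 := fun e he => by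
    obtain ⟨h1, h2, h3⟩ := hF.side_spec he
    constructor <;> rw [hg, sum_eq_single_of_mem e he]
    · simp [ind, h1, h2]
    · intro f hf hfe
      by_cases h : (ends f).1 ∈ comp ends (T.erase e) (ends e).1 <;>
        simp [ind, h, (h3 f hf hfe).symm] <;> norm_num
    · simp [ind, h1, h2]
    · intro f hf hfe
      by_cases h : (ends f).1 ∈ comp ends (T.erase e) (ends e).1 <;>
        simp [ind, h, (h3 f hf hfe).symm] <;> norm_num
  have hprop : ∀ e ∈ T, (comp ends (T.erase e) (ends e).1).Nonempty ∧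
      comp ends (T.erase e) (ends e).1 ≠ univ := fun e he => by
    obtain ⟨h1, h2, -⟩ := hF.side_spec he
    exact ⟨⟨_, h1⟩, fun h => h2 (h ▸ mem_univ _)⟩
  have hprop' : ∀ S : Finset V, S.Nonempty → S ≠ univ → Sᶜ.Nonempty ∧ Sᶜ ≠ univ := fun S h1 h2 =>
    ⟨by rw [nonempty_iff_ne_empty]; simpa using h2, fun h => by simp_all⟩
  have hterm : ∀ S : Finset V, ∀ e ∈ T, |γ e| ≤ 1 / 2 → 0 ≤ γ e * (ind S (ends e).2 - ind S (ends e).1) +
          (ind S (ends e).1 + ind S (ends e).2 - 2 * ind S (ends e).1 * ind S (ends e).2) / 2 := fun S e _ h => by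
    rw [abs_le] at h
    unfold ind; split_ifs <;> linarith
  constructor
  · rw [semistable_iff_gap]
    refine ⟨fun h e he => ?_, fun h S _ _ => ?_⟩
    · obtain ⟨a, b⟩ := hprop e he
      have h1 := h _ a b
      have h2 := h _ (hprop' _ a b).1 (hprop' _ a b).2
      rw [(hgap e he).1] at h1; rw [(hgap e he).2] at h2
      rw [← abs_neg, ← hγ e he, abs_le]; constructor <;> linarith
    · rw [hg]
      exact sum_nonneg fun e he => hterm S e he (by have := h e he; rwa [← abs_neg, ← hγ e he] at this)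
  · rw [stable_iff_gap]
    refine ⟨fun h e he => ?_, fun h S hne hun => ?_⟩
    · obtain ⟨a, b⟩ := hprop e he
      have h1 := h _ a b
      have h2 := h _ (hprop' _ a b).1 (hprop' _ a b).2
      rw [(hgap e he).1] at h1; rw [(hgap e he).2] at h2
      rw [← abs_neg, ← hγ e he, abs_lt]; constructor <;> linarith
    · rw [hg]
      have habs : ∀ e ∈ T, |γ e| < 1 / 2 := fun e he => by
        have := h e he; rwa [← abs_neg, ← hγ e he] at this
      obtain ⟨e, he, hcr⟩ := hc.exists_cross hne hun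
      refine sum_pos' (fun f hf => hterm S f hf (habs f hf).le) ⟨e, he, ?_⟩
      have := abs_lt.1 (habs e he)
      unfold ind; split_ifs <;> first | linarith | (exfalso; tauto)

lemma tree_existsUnique [Nonempty V] (hc : ConnOn ends T) (hF : ForestOn ends T) (b : ℤ) (φ : V → ℝ)
    (hφ : (∑ v : V, φ v) = (b : ℝ)) (hnd : Nondegenerate ends φ) :
    ∃! m : V → ℤ, totDeg m Tᶜ = b ∧ IsStable ends φ m Tᶜ := by
  set a : E → ℝ := fun e => ∑ v ∈ comp ends (T.erase e) (ends e).1, (- φ v + (endCount ends Tᶜ v : ℝ) / 2)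
  have hsum : ∀ (m : V → ℤ) (e : E), ∑ v ∈ comp ends (T.erase e) (ends e).1,
      ((m v : ℝ) - φ v + (endCount ends Tᶜ v : ℝ) / 2) =
      ((∑ v ∈ comp ends (T.erase e) (ends e).1, m v : ℤ) : ℝ) + a e := fun m e => by
    simp only [a]; push_cast; rw [← sum_add_distrib]; exact sum_congr rfl fun v _ => by ring
  obtain ⟨m, ⟨hm1, hm2⟩, -⟩ := tree_unique (R := ℤ) hc hF (fun e => round (- a e)) (b - (Tᶜ : Finset E).card)
  have hdeg : totDeg m Tᶜ = b := by rw [totDeg, hm2]; ring
  refine ⟨m, ⟨hdeg, hnd m Tᶜ (by rw [hφ, hdeg]) ((tree_stable_iff hc hF φ m (by rw [hφ, hdeg])).1.2 fun e he => ?_)⟩,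
    fun m' hm' => ?_⟩
  · rw [hsum, hm1 e he]
    have := abs_sub_round (- a e)
    rwa [← abs_neg, neg_sub, sub_neg_eq_add] at this
  · obtain ⟨hd', hs'⟩ := hm'
    have hst := hnd m Tᶜ (by rw [hφ, hdeg]) ((tree_stable_iff hc hF φ m (by rw [hφ, hdeg])).1.2 fun e he => by
      rw [hsum, hm1 e he]
      have := abs_sub_round (- a e)
      rwa [← abs_neg, neg_sub, sub_neg_eq_add] at this)
    have h1 := (tree_stable_iff hc hF φ m (by rw [hφ, hdeg])).2.1 hst
    have h2 := (tree_stable_iff hc hF φ m' (by rw [hφ, hd'])).2.1 hs'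
    obtain ⟨m₀, -, huniq⟩ := tree_unique (R := ℤ) hc hF (fun e => round (- a e)) (b - (Tᶜ : Finset E).card)
    refine (huniq m' ⟨fun e he => ?_, ?_⟩).trans (huniq m ⟨hm1, hm2⟩).symm
    · rw [← hm1 e he]
      have e1 := h1 e he; have e2 := h2 e he
      rw [hsum, abs_lt] at e1 e2
      set p := ∑ v ∈ comp ends (T.erase e) (ends e).1, m' v
      set q := ∑ v ∈ comp ends (T.erase e) (ends e).1, m v
      have x1 : (p : ℝ) < q + 1 := by linarith
      have x2 : (q : ℝ) < p + 1 := by linarith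
      have y1 : p < q + 1 := by exact_mod_cast x1
      have y2 : q < p + 1 := by exact_mod_cast x2
      omega
    · rw [← hd', totDeg]; ring

end tree

lemma ell_eq_gap (φ : V → ℝ) (m : V → ℤ) (N : Finset E) (S : Finset V) :
    ell ends S (degOn ends m N S) φ = gap ends φ m N S := rfl

lemma polytope_criterion (hconn : LabGraph.Connected ends) (b : ℤ) (φ₁ φ₂ : V → ℝ)
    (h₁ : (∑ v : V, φ₁ v) = (b : ℝ))
    (h₂ : (∑ v : V, φ₂ v) = (b : ℝ)) (hnd : Nondegenerate ends φ₁) :
    (∀ (m : V → ℤ) (N : Finset E), totDeg m N = b → IsStable ends φ₁ m N → IsSemistable ends φ₂ m N) ↔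
      InClosedPolytope ends φ₁ φ₂ := by
  obtain ⟨hV, hc⟩ := (connected_iff ends).1 hconn
  constructor
  · intro h S hS d hd
    obtain ⟨hS1, hS2⟩ := (isElementary_iff S).1 hS
    obtain ⟨hne, hun⟩ := isElementary_proper hS
    obtain ⟨e₀, -, he₀⟩ := hc.exists_cross hne hun
    set A := insert e₀ (PhiStab.inner ends S ∪ PhiStab.inner ends Sᶜ) with hA
    have hsubS : PhiStab.inner ends S ⊆ A := fun x hx => by simp [hA, hx]
    have hsubC : PhiStab.inner ends Sᶜ ⊆ A := fun x hx => by simp [hA, hx]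
    have hAc : ConnOn ends A := by
      have hreach : ∀ x, Reach ends A x (ends e₀).1 := fun x => by
        have he : Reach ends A (ends e₀).1 (ends e₀).2 := Reach.edge (mem_insert_self _ _)
        by_cases hx : x ∈ S <;> by_cases hf : (ends e₀).1 ∈ S
        · exact (hS1.2 x hx _ hf).mono hsubS
        · exact ((hS1.2 x hx _ (by tauto)).mono hsubS).trans' he.symm
        · exact ((hS2.2 x (mem_compl.2 hx) _ (mem_compl.2 (by tauto))).mono hsubC).trans' he.symm
        · exact (hS2.2 x (mem_compl.2 hx) _ (mem_compl.2 hf)).mono hsubC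
      exact fun x y => (hreach x).trans' (hreach y).symm
    obtain ⟨T, hTA, hTc, hTF⟩ := hAc.exists_tree
    have honly : ∀ e ∈ T, e ≠ e₀ → ((ends e).1 ∈ S ↔ (ends e).2 ∈ S) := fun e he hne' => by
      have := hTA he
      simp only [hA, mem_insert, hne', false_or, mem_union, PhiStab.inner, mem_filter, mem_univ, true_and,
        mem_compl] at this
      tauto
    have he₀T : e₀ ∈ T := by
      obtain ⟨e, he, hcr⟩ := hTc.exists_cross hne hun
      by_contra h0
      exact hcr (honly e he fun hh => h0 (hh ▸ he))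
    obtain ⟨m, ⟨hm, hst⟩, -⟩ := tree_existsUnique hTc hTF b φ₁ h₁ hnd
    have hd1 : (∑ v : V, φ₁ v) = (totDeg m Tᶜ : ℝ) := by rw [h₁, hm]
    obtain ⟨γ, hγ, hg⟩ := gap_tree hTc hTF φ₁ m hd1
    have habs : |γ e₀| < 1 / 2 := by
      have := (tree_stable_iff hTc hTF φ₁ m hd1).2.1 hst e₀ he₀T
      rwa [← abs_neg, ← hγ e₀ he₀T] at this
    have hlt : gap ends φ₁ m Tᶜ S < 1 := by
      rw [hg, sum_eq_single_of_mem e₀ he₀T]
      · rw [abs_lt] at habs
        unfold ind; split_ifs <;> linarith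
      · intro f hf hfe
        have := honly f hf hfe
        by_cases hh : (ends f).1 ∈ S <;> simp [ind, hh, this.symm] <;> norm_num
    have hsemi := (semistable_iff_gap φ₂ m Tᶜ).1 (h m Tᶜ hm hst) S hne hun
    rw [← ell_eq_gap] at hlt hsemi
    simp only [ell] at hlt hsemi hd ⊢
    have : (degOn ends m Tᶜ S : ℝ) < d + 1 := by linarith
    have h3 : degOn ends m Tᶜ S < d + 1 := by exact_mod_cast this
    have h4 : (degOn ends m Tᶜ S : ℝ) ≤ d := by exact_mod_cast (Int.lt_add_one_iff.1 h3)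
    linarith
  · intro h m N hN hst
    refine ((elementary_criterion hconn φ₂ m N (by rw [h₂, hN])).1).2 fun S hS => ?_
    have h1 := hst S (isElementary_proper hS).1 (isElementary_proper hS).2
    have := h S hS (degOn ends m N S) (by simp only [ell]; linarith)
    simp only [ell] at this
    linarith

lemma mem_circuit_iff (hG : LabGraph.Connected ends) (v : V) :
    (∃ C : Finset E, IsCircuit ends C ∧ endCount ends C v ≠ 0) ↔
      ∃ T : Finset E, IsSpanningTree ends T ∧ ∃ e : E, e ∉ T ∧ ((ends e).1 = v ∨ (ends e).2 = v) := by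
  obtain ⟨hV, hc⟩ := (connected_iff ends).1 hG
  constructor
  · rintro ⟨C, hC, hne⟩
    obtain ⟨e, he, hev⟩ : ∃ e ∈ C, (ends e).1 = v ∨ (ends e).2 = v := by
      by_contra hh
      push_neg at hh
      exact hne (sum_eq_zero fun e he => by simp [hh e he])
    have hr := (EvenSet.reach (ends := ends) hC.2.1 he).mono (erase_subset_erase e (subset_univ C))
    obtain ⟨T, hT, h1, h2⟩ := (hc.erase hr).exists_tree
    exact ⟨T, (isTree_sub_iff ends T).2 ⟨hV, h1, h2⟩, e, fun h => notMem_erase e _ (hT h), hev⟩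
  · rintro ⟨T, hT, e, he, hev⟩
    obtain ⟨-, h1, -⟩ := (isTree_sub_iff ends T).1 hT
    obtain ⟨C, hC, -, heC⟩ := exists_circuit_of_reach he (h1 _ _)
    refine ⟨C, hC, fun hh => ?_⟩
    have := (sum_eq_zero_iff.1 hh) e heC
    rcases hev with h | h <;> simp [h] at this

end Groth.Agent.H25Graph
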